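import Groth.Agent.Sga67.BlowAmple
import Groth.Agent.EGA2.K30.AmpleLoc
import Groth.Agent.Divis.NormAmple
import Groth.Agent.Grpsch.PicGrp

/-!
# Ample modules on a blow-up

For `b : X₁ ⟶ X` a blow-up of `J`, `K` ample on `X` and `a > 0` the module `I^a ⊗ b^* K^n`, `I` the ideal of the exceptional
divisor, is ample for `n ≫ 0`.
-/

set_option autoImplicit false
universe u

open CategoryTheory CategoryTheory.Limits AlgebraicGeometry

namespace Groth.Agent.HodgeNum.K108.AmpleBlow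

open Groth.Agent.Ega2.ExtCoeff Groth.Agent.Ega2.Nv Groth.Agent.Ega2.Ample Groth.Agent.Fdesc.LocGen
open Groth.Agent.Ega2.RelAmp

variable {X X₁ : Scheme.{u}}

theorem exists_isAmple {J : X.IdealSheafData} {b : X₁ ⟶ X} (hb : BlowUp.IsBlowUp b J)
    [QuasiCompact b] {K : X.Modules} (hK : CohB1.IsAmple K) {a : ℕ} (ha : 0 < a) :
    ∃ n₀ : ℕ, ∀ n : ℕ, n₀ ≤ n → CohB1.IsAmple (CohB1.tensorMod (CohB1.tensorPow (ClSub.idealMod (J.comap b)) a)
      ((Scheme.Modules.pullback b).obj (CohB1.tensorPow K n))) := by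
  have hK' := isAmple_iff_ampleOn_top.1 hK
  obtain ⟨n, hn⟩ := ampleOn_tw b (L := CohB1.tensorPow (ClSub.idealMod (J.comap b)) a) hK' (fun W _ hW =>
    (K30.AmpleLoc.ampleOn_tensorPow_iff _ _).2 (Groth.Agent.Divis.NormAmple.isAmple_tensorPow
      (Groth.Agent.Ega1.AmpFamBlow.isAmple_restrict hb ⟨W, hW⟩ _ rfl) ha))
  exact ⟨n, fun m hm => isAmple_iff_ampleOn_top.2 (hn m hm)⟩

end Groth.Agent.HodgeNum.K108.AmpleBlow
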