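import Mathlib.Data.Nat.Choose.Vandermonde
import Mathlib.Data.ZMod.Basic

/-!
# Periodicity of binomial coefficients modulo `m`
-/

set_option autoImplicit false

namespace Groth.Agent.HodgeNum.K108.Binom

/-- `m ∣ binom(m K! s, j)` for `1 ≤ j ≤ K`. -/
theorem dvd_choose (m K s j : ℕ) (hj : 0 < j) (hK : j ≤ K) : m ∣ (m * K.factorial * s).choose j := by
  obtain ⟨t, ht⟩ := Nat.dvd_factorial hj hK
  rcases Nat.eq_zero_or_pos (m * K.factorial * s) with h | h
  · rw [h, Nat.choose_eq_zero_of_lt hj]
    exact dvd_zero m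
  · obtain ⟨y, hy⟩ := Nat.exists_eq_add_one_of_ne_zero h.ne'
    obtain ⟨j, rfl⟩ := Nat.exists_eq_add_one_of_ne_zero hj.ne'
    have h1 := Nat.add_one_mul_choose_eq y j
    rw [← hy, ht] at h1
    have h2 : (m * ((j + 1) * t) * s).choose (j + 1) = m * (t * s * y.choose j) := by
      apply Nat.eq_of_mul_eq_mul_right (show 0 < j + 1 from Nat.succ_pos j)
      rw [← h1]
      ring
    rw [ht, h2]
    exact Dvd.intro _ rfl

/-- `binom(x + m K! s, K) = binom(x, K)` modulo `m`. -/
theorem cast_choose (m K x s : ℕ) :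
    (((x + m * K.factorial * s).choose K : ℕ) : ZMod m) = ((x.choose K : ℕ) : ZMod m) := by
  rw [Nat.add_choose_eq, Nat.cast_sum, Finset.sum_eq_single (K, 0)]
  · simp
  · rintro ⟨i, j⟩ hij hne
    rw [Finset.mem_antidiagonal] at hij
    have hij' : i + j = K := hij
    have hj : 0 < j := by
      rcases Nat.eq_zero_or_pos j with h | h
      · subst h
        exact absurd (by rw [← hij', Nat.add_zero]) hne
      · exact h
    obtain ⟨t, ht⟩ := dvd_choose m K s j hj (by omega)
    change ((x.choose i * (m * K.factorial * s).choose j : ℕ) : ZMod m) = 0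
    rw [ht]
    push_cast
    simp
  · intro h
    exact absurd (Finset.mem_antidiagonal.2 (Nat.add_zero K)) h

/-- `binom(K d, K) = 1` modulo `m` for `d = 1 + m K! s`. -/
theorem cast_choose_one (m K s : ℕ) : (((K * (1 + m * K.factorial * s)).choose K : ℕ) : ZMod m) = 1 := by
  have h : K * (1 + m * K.factorial * s) = K + m * K.factorial * (K * s) := by ring
  rw [h, cast_choose, Nat.choose_self, Nat.cast_one]

/-- `binom(m K! d, K) = 0` modulo `m` for `K > 0`. -/
theorem cast_choose_zero (m K d : ℕ) (hK : 0 < K) : (((m * K.factorial * d).choose K : ℕ) : ZMod m) = 0 := by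
  have h := cast_choose m K 0 d
  rw [Nat.zero_add, Nat.choose_eq_zero_of_lt hK] at h
  rw [h, Nat.cast_zero]

end Groth.Agent.HodgeNum.K108.Binom
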