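import Groth.Agent.HodgeNum.K882.Divisor
import Groth.Agent.Coh.K415.LerayGen
import Groth.Agent.Ega3B.RpushAbCmp
import Groth.Agent.Dcoh.ProjFLF
import Groth.Agent.Dcoh.MonPull292

/-!
# Degenerate Leray for dimensions of cohomology groups

`f : X' ⟶ X` over `k`.
* `hd_push_of_rpush`: `h^q(X, f_* M) = h^q(X', M)` if `R^i f_* M = 0` for `i > 0`;
* `van_of_rpush`: `H^q(X', M) = 0` for all `q` if `R^i f_* M = 0` for all `i`;
* `rpush_twist`: `R^i f_*(f^* V ⊗ F) = 0` if `R^i f_* F = 0` and `V` is finite locally free;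
* `hd_pullback`: `h^q(X', f^* V) = h^q(X, V)` for `V` finite locally free if `O = f_* O`, `R^i f_* O = 0` for `i > 0`.
-/

set_option autoImplicit false
universe u

open CategoryTheory CategoryTheory.Limits AlgebraicGeometry
open K882.Coho K882.IsoMon K882.Divisor

namespace K108.Leray

variable {X X' : Scheme.{u}}

/-- Modules on a scheme have injective resolutions. -/
theorem hasInj (X : Scheme.{u}) : HasInjectiveResolutions X.Modules := by
  have := Groth.Agent.VarietyB.HHPush.enoughInjectives X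
  infer_instance

/-- Projection formula for a finite locally free module. -/
theorem proj (f : X' ⟶ X) [HasInjectiveResolutions X'.Modules] (F : X'.Modules) {E : X.Modules}
    (hE : FlatMod.IsFinLocFree E) (q : ℕ) :
    Nonempty (CohB1.tensorMod E ((Coh.Rpush f q).obj F) ≅
      (Coh.Rpush f q).obj (CohB1.tensorMod ((Scheme.Modules.pullback f).obj E) F)) := by
  let _ := Groth.Agent.Dcoh.MonPull.monPull f
  obtain ⟨E', ⟨_⟩⟩ := Groth.Agent.Dcoh.DualFLF.exists_exactPairing hE
  exact Groth.Agent.Dcoh.ProjFLF.nonempty_iso f F E E' q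

/-- `R^i f_*(f^* V ⊗ F) = 0` if `R^i f_* F = 0`. -/
theorem rpush_twist (f : X' ⟶ X) [HasInjectiveResolutions X'.Modules] (F : X'.Modules) {E : X.Modules}
    (hE : FlatMod.IsFinLocFree E) (q : ℕ) (h : IsZero ((Coh.Rpush f q).obj F)) :
    IsZero ((Coh.Rpush f q).obj (CohB1.tensorMod ((Scheme.Modules.pullback f).obj E) F)) := by
  obtain ⟨e⟩ := proj f F hE q
  refine IsZero.of_iso ?_ e.symm
  exact ((DCoh.tensorBi (X := X)).obj E).map_isZero h

variable (k : Type u) [Field k] [X.Over (Spec (CommRingCat.of k))] [X'.Over (Spec (CommRingCat.of k))]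

/-- `h^q(X, f_* M) = h^q(X', M)` if `R^i f_* M = 0` for `i > 0`. -/
theorem hd_push_of_rpush (f : X' ⟶ X) [HasInjectiveResolutions X'.Modules]
    (hf : f ≫ (X ↘ Spec (CommRingCat.of k)) = X' ↘ Spec (CommRingCat.of k)) (M : X'.Modules)
    (h : ∀ i : ℕ, 0 < i → IsZero ((Coh.Rpush f i).obj M)) (q : ℕ) :
    hd k ((Scheme.Modules.pushforward f).obj M) q = hd k M q := by
  obtain ⟨e⟩ := K415.LerayGen.exists_equiv_of_isAcyc f k hf M h q
  exact LinearEquiv.finrank_eq e

/-- `H^q(X', M) = 0` if `R^i f_* M = 0` for all `i`. -/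
theorem van_of_rpush (f : X' ⟶ X) [HasInjectiveResolutions X'.Modules]
    (hf : f ≫ (X ↘ Spec (CommRingCat.of k)) = X' ↘ Spec (CommRingCat.of k)) (M : X'.Modules)
    (h : ∀ i : ℕ, IsZero ((Coh.Rpush f i).obj M)) (q : ℕ) : Van M q := by
  obtain ⟨e⟩ := K415.LerayGen.exists_equiv_of_isAcyc f k hf M (fun i _ => h i) q
  have h0 : IsZero ((Scheme.Modules.pushforward f).obj M) :=
    IsZero.of_iso (h 0) ((Functor.rightDerivedZeroIsoSelf (Scheme.Modules.pushforward f)).app M).symm
  have h1 : Van ((Scheme.Modules.pushforward f).obj M) q := van_zeroMod h0 q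
  exact ⟨fun x y => e.symm.injective (h1.elim _ _)⟩

/-- `h^q(X', f^* V) = h^q(X, V)`. -/
theorem hd_pullback (f : X' ⟶ X) [HasInjectiveResolutions X'.Modules]
    (hf : f ≫ (X ↘ Spec (CommRingCat.of k)) = X' ↘ Spec (CommRingCat.of k))
    (h1 : IsIso ((Scheme.Modules.pullbackPushforwardAdjunction f).unit.app (Coh.structureModule X)))
    (h2 : ∀ i : ℕ, 0 < i → IsZero ((Coh.Rpush f i).obj (Coh.structureModule X')))
    {V : X.Modules} (hV : FlatMod.IsFinLocFree V) (q : ℕ) :
    hd k ((Scheme.Modules.pullback f).obj V) q = hd k V q := by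
  have e0 : c (CohB1.tensorMod ((Scheme.Modules.pullback f).obj V) (Coh.structureModule X')) =
      c ((Scheme.Modules.pullback f).obj V) := by
    rw [c_tensor, c_unit, mul_one]
  obtain ⟨e⟩ := proj f (Coh.structureModule X') hV 0
  have e1 : c ((Scheme.Modules.pushforward f).obj (Coh.structureModule X')) = 1 := by
    rw [← c_unit, c_eq_iff]
    obtain ⟨e'⟩ := c_eq_iff.mp (c_pull_unit f)
    exact ⟨(Scheme.Modules.pushforward f).mapIso e'.symm ≪≫
      (asIso ((Scheme.Modules.pullbackPushforwardAdjunction f).unit.app (Coh.structureModule X))).symm⟩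
  have e2 : c V = c ((Scheme.Modules.pushforward f).obj
      (CohB1.tensorMod ((Scheme.Modules.pullback f).obj V) (Coh.structureModule X'))) := by
    rw [← c_iso ((Functor.rightDerivedZeroIsoSelf (Scheme.Modules.pushforward f)).app _), ← c_iso e, c_tensor,
      c_iso ((Functor.rightDerivedZeroIsoSelf (Scheme.Modules.pushforward f)).app _), e1, mul_one]
  rw [hd_c e2 q, hd_push_of_rpush k f hf _ (fun i hi => rpush_twist f _ hV i (h2 i hi)) q, hd_c e0 q]

end K108.Leray
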