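import Groth.Agent.HodgeNum.K108.ChiPic
import Groth.Agent.HodgeNum.K108.Leray
import Groth.Agent.HodgeNum.K108.PointBlow
import Groth.Agent.Krr.H470.BlowMain
import Groth.Agent.Ega3B.RpushAbCmp
import Groth.Agent.AbVar.K504.Hodge

/-!
# Euler characteristics on the blow-up of a rational point

`chi_blow : χ(X₁, b^*a · ι^{-j}) = χ(X, a) + (-1)^n binom(j, n+1)`, `ι` the class of the ideal of the exceptional divisor,
`n + 1 = dim X`.
-/

set_option autoImplicit false
universe u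

open CategoryTheory CategoryTheory.Limits AlgebraicGeometry

namespace Groth.Agent.HodgeNum.K108.ChiBlow

open Groth.Agent Groth.Agent.Grpsch.PicGrp ChiPic

variable {k : Type u} [Field k] {X X₁ : Scheme.{u}} [X.Over (Spec (CommRingCat.of k))]
  [X₁.Over (Spec (CommRingCat.of k))]

/-- `h^q(X₁, b^* V) = h^q(X, V)`. -/
theorem hd_pullback {b : X₁ ⟶ X} [IsIntegral X] (n : ℕ) [IsSeparated (X ↘ Spec (CommRingCat.of k))]
    [SmoothOfRelativeDimension (n + 1) (X ↘ Spec (CommRingCat.of k))]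
    (hbk : b ≫ (X ↘ Spec (CommRingCat.of k)) = X₁ ↘ Spec (CommRingCat.of k))
    {x : Spec (CommRingCat.of k) ⟶ X} (hx : x ≫ (X ↘ Spec (CommRingCat.of k)) = 𝟙 _) (hb : BlowUp.IsBlowUp b x.ker)
    {V : X.Modules} (hV : FlatMod.IsFinLocFree V) (q : ℕ) :
    K882.Coho.hd k ((Scheme.Modules.pullback b).obj V) q = K882.Coho.hd k V q := by
  have hcx := PointBlow.isClosedImmersion hx
  have hM := PointBlow.isModif n hx hb
  have := hM.integral
  have := hM.proper
  have hinj := _root_.K108.Leray.hasInj X₁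
  refine _root_.K108.Leray.hd_pullback k b hbk ?_ ?_ hV q
  · exact Krr.H470.BlowMain.isIso_unit x (PointBlow.isRegular (n + 1) hx) (Nat.succ_pos n)
      (PointBlow.conormal_rank (n + 1) hx) b hb
  · intro i hi
    rw [← Ega3B.RpushAbCmp.isZero_RpushAb_iff]
    exact Krr.H470.BlowMain.isZero_RpushAb x (PointBlow.isRegular (n + 1) hx) (Nat.succ_pos n)
      (PointBlow.conormal_rank (n + 1) hx) b hb i hi

theorem chi_pull {b : X₁ ⟶ X} [IsIntegral X] (n : ℕ) [IsSeparated (X ↘ Spec (CommRingCat.of k))]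
    [SmoothOfRelativeDimension (n + 1) (X ↘ Spec (CommRingCat.of k))]
    (hbk : b ≫ (X ↘ Spec (CommRingCat.of k)) = X₁ ↘ Spec (CommRingCat.of k))
    {x : Spec (CommRingCat.of k) ⟶ X} (hx : x ≫ (X ↘ Spec (CommRingCat.of k)) = 𝟙 _) (hb : BlowUp.IsBlowUp b x.ker)
    (d : ℕ) (a : Pic X) : chi k X₁ d (pull b a) = chi k X d a := by
  induction a using ind with | _ L hL => ?_
  rw [pull_mk, chi_mk, chi_mk]
  unfold FGA.eulerCharLE
  refine Finset.sum_congr rfl fun i _ => ?_
  congr 2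
  exact hd_pullback n hbk hx hb (K882.Divisor.flf_of_inv hL) i

/-- **Euler characteristics on the blow-up of a rational point.** -/
theorem chi_blow {b : X₁ ⟶ X} [IsIntegral X] (n : ℕ) [IsProper (X ↘ Spec (CommRingCat.of k))]
    [SmoothOfRelativeDimension (n + 1) (X ↘ Spec (CommRingCat.of k))]
    (hbk : b ≫ (X ↘ Spec (CommRingCat.of k)) = X₁ ↘ Spec (CommRingCat.of k))
    {x : Spec (CommRingCat.of k) ⟶ X} (hx : x ≫ (X ↘ Spec (CommRingCat.of k)) = 𝟙 _) (hb : BlowUp.IsBlowUp b x.ker)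
    (hI : PicF.IsInvertible (ClSub.idealMod (x.ker.comap b))) (a : Pic X) (j : ℕ) :
    chi k X₁ (n + 1) (pull b a * (mk _ hI ^ j)⁻¹) = chi k X (n + 1) a + (-1) ^ n * (j.choose (n + 1) : ℤ) := by
  have hcx := PointBlow.isClosedImmersion hx
  have hM := PointBlow.isModif n hx hb
  have := hM.integral
  have := hM.proper
  have hp : IsProper (X₁ ↘ Spec (CommRingCat.of k)) := by rw [← hbk]; infer_instance
  have hs : SmoothOfRelativeDimension (n + 1) (X₁ ↘ Spec (CommRingCat.of k)) := by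
    rw [← hbk]; exact PointBlow.smooth_blowUp n hx hb
  have hdim : topologicalKrullDim X₁ ≤ ((n + 1 : ℕ) : WithBot ℕ∞) :=
    (K504.Hodge.topologicalKrullDim_eq (X₁ ↘ Spec (CommRingCat.of k)) (n + 1)).le
  obtain ⟨i, hi, hic, hik, ⟨e⟩⟩ := PointBlow.exists_exc n hx hb
  have hik' : i ≫ (X₁ ↘ Spec (CommRingCat.of k)) = CohB1.ProjSpace n k ↘ Spec (CommRingCat.of k) := by
    rw [← hbk, ← Category.assoc, hi.w, Category.assoc, hx, Category.comp_id]
    rfl
  have he : pull i (mk _ hI) = O k n 1 := mk_congr e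
  have hp1 : pull i (pull b a) = 1 := by
    rw [← pull_comp, hi.w, pull_comp, pic_spec_local k (pull x a), map_one]
  induction j with
  | zero =>
    rw [pow_zero, inv_one, mul_one, chi_pull n hbk hx hb, Nat.choose_eq_zero_of_lt (Nat.succ_pos n)]
    simp
  | succ j ih =>
    rw [chi_cut k i hik' hdim _ hik hI]
    have h1 : pull b a * (mk _ hI ^ (j + 1))⁻¹ * mk _ hI = pull b a * (mk _ hI ^ j)⁻¹ := by
      rw [pow_succ, mul_inv, mul_assoc, mul_assoc, inv_mul_cancel, mul_one]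
    have h2 : pull i (pull b a * (mk _ hI ^ (j + 1))⁻¹) = (O k n 1 ^ (j + 1))⁻¹ := by
      rw [map_mul, map_inv, map_pow, hp1, he, one_mul]
    rw [h1, h2, ih, chi_O_neg k n j (n + 1) (Nat.le_succ n), Nat.choose_succ_succ' j n]
    push_cast
    ring

end Groth.Agent.HodgeNum.K108.ChiBlow
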