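import Groth.Agent.Surf.K455.CutKer
import Groth.Agent.IntTh.K711.TwistCls
import Groth.Agent.CAlgX.K581.HomDim
import Groth.Agent.Grpsch.PicGrp

/-!
# Euler characteristics of classes in the Picard group

* `chi k X d a` for `a : Pic X`;
* `chi_cut`: `χ(a) = χ(a · [I]) + χ(i^* a)` for a closed immersion `i` with invertible ideal `I`;
* `chi_twist_neg`: `χ(P^n, O(-(j+1))) = (-1)^n binom(j, n)`.
-/

set_option autoImplicit false
universe u

open CategoryTheory CategoryTheory.Limits AlgebraicGeometry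

namespace Groth.Agent.HodgeNum.K108.ChiPic

open Groth.Agent Groth.Agent.Ega2 Groth.Agent.Grpsch.PicGrp Groth.Agent.Fga.PicMon

section Binom

open Groth.Agent.VarietyB.EulerBinom

theorem N_eq (n d : ℕ) : N n d = (d + n).choose n := by
  rw [← finrank_homogeneous ℚ n d]
  exact K581.HomDim.finrank_homogeneous ℚ n d

theorem c_neg_succ (n j : ℕ) : c n (-((j : ℤ) + 1)) = (-1) ^ n * (j.choose n : ℤ) := by
  unfold c
  rw [if_neg (by omega)]
  by_cases h : n ≤ j
  · rw [if_pos (by omega)]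
    have h1 : (-((n : ℤ) + 1) - -((j : ℤ) + 1)).toNat = j - n := by omega
    rw [h1, N_eq, Nat.sub_add_cancel h]
  · rw [if_neg (by omega), Nat.choose_eq_zero_of_lt (by omega)]
    simp

end Binom

variable (k : Type u) [Field k] (X : Scheme.{u}) [X.Over (Spec (CommRingCat.of k))] (d : ℕ)

/-- The Euler characteristic on the Picard group. -/
noncomputable def chi : Pic X → ℤ :=
  Quotient.lift (fun L => FGA.eulerCharLE k X L.1 d) (fun _ _ ⟨e⟩ => euler_iso k X e d)

theorem chi_mk {L : X.Modules} (hL : PicF.IsInvertible L) : chi k X d (mk L hL) = FGA.eulerCharLE k X L d := rfl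

section Cut

variable {X} {C : Scheme.{u}} [C.Over (Spec (CommRingCat.of k))] [IsProper (X ↘ Spec (CommRingCat.of k))]

theorem euler_cut_quot {d : ℕ} (hdim : topologicalKrullDim X ≤ d) (I : X.IdealSheafData) {M : X.Modules}
    (hM : PicF.IsInvertible M) :
    FGA.eulerCharLE k X M d = FGA.eulerCharLE k X (CohB1.tensorMod M (ClSub.idealMod I)) d +
      FGA.eulerCharLE k X (CohB1.tensorMod M (ClSub.quotMod I)) d := by
  have := Fga.IntAdd.isNoetherian k X
  have h := Fga.IntAdd.isAdd_tensor X (Fga.IntAdd.isAdd_euler k X d hdim) hM _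
    (Sga2.LefPow644.shortExact_idealMod I) (VarietyB.DegCartier.isCoh_idealMod I) (CurvesC.UnitCoh.isCoh_unit X)
    (CycB.ClosSheaf.isCoh_push_structureModule I.subschemeι)
  rw [← euler_iso k X (Tens.runit M) d]
  exact h

theorem euler_cut (i : C ⟶ X) [IsClosedImmersion i]
    (hi : i ≫ (X ↘ Spec (CommRingCat.of k)) = C ↘ Spec (CommRingCat.of k)) {d : ℕ}
    (hdim : topologicalKrullDim X ≤ d) (I : X.IdealSheafData) (hI : i.ker = I) {M : X.Modules}
    (hM : PicF.IsInvertible M) :
    FGA.eulerCharLE k X M d = FGA.eulerCharLE k X (CohB1.tensorMod M (ClSub.idealMod I)) d +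
      FGA.eulerCharLE k C ((Scheme.Modules.pullback i).obj M) d := by
  rw [euler_cut_quot k hdim I hM]
  congr 1
  rw [← euler_iso k C (Tens.runit ((Scheme.Modules.pullback i).obj M)) d]
  obtain ⟨e⟩ := K455.CutKer.nonempty_push_iso_quotMod i I hI
  rw [← euler_iso k X (Tens.mapTIso (Iso.refl M) e) d]
  exact K455.Cut.euler_tensor_push k i hi hM (Coh.structureModule C) d

/-- `χ(a) = χ(a · [I]) + χ(i^* a)`. -/
theorem chi_cut (i : C ⟶ X) [IsClosedImmersion i]
    (hi : i ≫ (X ↘ Spec (CommRingCat.of k)) = C ↘ Spec (CommRingCat.of k)) {d : ℕ}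
    (hdim : topologicalKrullDim X ≤ d) (I : X.IdealSheafData) (hI : i.ker = I)
    (hI' : PicF.IsInvertible (ClSub.idealMod I)) (a : Pic X) :
    chi k X d a = chi k X d (a * mk _ hI') + chi k C d (pull i a) := by
  induction a using ind with | _ M hM => ?_
  exact euler_cut k i hi hdim I hI hM

end Cut

section Proj

variable (n : ℕ)

/-- The class of `O(t)`. -/
noncomputable def O (t : ℤ) : Pic (CohB1.ProjSpace n k) :=
  mk (Twist.twistProjSpace n k t) (K711.TwistCls.isInvertible_twist n k t)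

theorem O_zero : O k n 0 = 1 := by
  obtain ⟨e⟩ := Ega2.TwistInv.nonempty_unit_iso (CohB1.polyGrading n k)
  exact mk_congr e.symm

theorem O_add (s t : ℤ) : O k n (s + t) = O k n s * O k n t := by
  obtain ⟨e⟩ := Sga67.TwistProj.nonempty_mul n k s t
  exact mk_congr e.symm

theorem O_neg (t : ℤ) : O k n (-t) = (O k n t)⁻¹ := by
  rw [eq_inv_iff_mul_eq_one, ← O_add, neg_add_cancel, O_zero]

theorem O_nat (j : ℕ) : O k n j = O k n 1 ^ j := by
  induction j with
  | zero => rw [pow_zero, Nat.cast_zero, O_zero]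
  | succ j ih => rw [pow_succ, ← ih, Nat.cast_succ, O_add]

theorem chi_proj_succ [IsProper (CohB1.ProjSpace n k ↘ Spec (CommRingCat.of k))]
    (a : Pic (CohB1.ProjSpace n k)) (d : ℕ) (hd : n ≤ d) : chi k (CohB1.ProjSpace n k) d a = chi k (CohB1.ProjSpace n k) n a := by
  induction a using ind with | _ M hM => ?_
  have h := K711.ProjDim.topologicalKrullDim_projSpace n k
  rw [chi_mk, chi_mk, Fga.IntAdd.eulerCharLE_eq k _ n h.le, Fga.IntAdd.eulerCharLE_eq k _ d]
  rw [h]
  exact_mod_cast hd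

/-- `χ(P^n, O(-(j+1))) = (-1)^n binom(j, n)`. -/
theorem chi_O_neg (j d : ℕ) (hd : n ≤ d) :
    chi k (CohB1.ProjSpace n k) d ((O k n 1 ^ (j + 1))⁻¹) = (-1) ^ n * (j.choose n : ℤ) := by
  have := VarietyB.EulerBinom.isProper_over k n
  rw [chi_proj_succ k n _ d hd, ← O_nat, ← O_neg]
  change FGA.eulerCharLE k (CohB1.ProjSpace n k) (Twist.twistProjSpace n k _) n = _
  rw [K711.TwistCls.chi_twist, ← c_neg_succ]
  push_cast
  ring_nf

end Proj

end Groth.Agent.HodgeNum.K108.ChiPic
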