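import Mathlib.LinearAlgebra.ExteriorPower.Basic
import Mathlib.Algebra.Algebra.Operations
import Mathlib.Algebra.Module.Submodule.Pointwise

/-!
# Exterior powers and elementary modifications (pure algebra)

For a submodule `P` of an `R`-module `M`, `G P n ⊆ ⋀^(n+1) M` is generated by the products with one factor in `P`.
* `ker_map`: `ker (⋀^(n+1) β) = G (ker β) n` for a surjective `β : M → N`;
* `range_map`: if `range α = R e + t M` then `range (⋀^(n+1) α) = t^n G (range α) n`;
* `map_injective`: `⋀^n α` is injective if `α` is, `t M ⊆ range α` and `t^n` is injective on `⋀^n K`.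
-/

set_option autoImplicit false

open Function
open scoped Pointwise

namespace K108.ExtElem

section Multi

variable {R : Type*} [CommRing R] {M Q : Type*} [AddCommGroup M] [Module R M] [AddCommGroup Q] [Module R Q]

theorem alt_mem_of_span {ι : Type*} [DecidableEq ι] (f : M [⋀^ι]→ₗ[R] Q) (T : Submodule R Q) (s : Set M)
    (H : ∀ w : ι → M, (∀ i, w i ∈ s) → f w ∈ T) (F : Finset ι) :
    ∀ v : ι → M, (∀ i, v i ∈ Submodule.span R s) → (∀ i, i ∉ F → v i ∈ s) → f v ∈ T := by
  induction F using Finset.induction_on with
  | empty => exact fun v _ hv => H v fun i => hv i (Finset.notMem_empty i)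
  | insert a F ha ih =>
    intro v hv hs
    have key : ∀ x ∈ Submodule.span R s, f (update v a x) ∈ T := by
      intro x hx
      induction hx using Submodule.span_induction with
      | mem x hx =>
        refine ih _ (fun i => ?_) (fun i hi => ?_)
        · by_cases h : i = a
          · subst h; rw [update_self]; exact Submodule.subset_span hx
          · rw [update_of_ne h]; exact hv i
        · by_cases h : i = a
          · subst h; rw [update_self]; exact hx
          · rw [update_of_ne h]
            exact hs i (by simp [h, hi])
      | zero => rw [f.map_update_zero]; exact T.zero_mem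
      | add x y _ _ hx hy => rw [f.map_update_add]; exact T.add_mem hx hy
      | smul c x _ hx => rw [f.map_update_smul]; exact T.smul_mem c hx
    have := key (v a) (hv a)
    rwa [update_eq_self] at this

theorem alt_eq_of_sub {ι : Type*} [DecidableEq ι] (f : M [⋀^ι]→ₗ[R] Q) (P : Submodule R M)
    (H : ∀ (w : ι → M) (i : ι), w i ∈ P → f w = 0) (v v' : ι → M) (F : Finset ι) :
    (∀ i, v i - v' i ∈ P) → (∀ i, i ∉ F → v i = v' i) → f v = f v' := by
  induction F using Finset.induction_on generalizing v with
  | empty => exact fun _ h => congrArg f (funext fun i => h i (Finset.notMem_empty i))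
  | insert a F ha ih =>
    intro hP h
    have h1 : f (update v a (v' a)) = f v' := by
      refine ih _ (fun i => ?_) (fun i hi => ?_)
      · by_cases h : i = a
        · subst h; rw [update_self, sub_self]; exact P.zero_mem
        · rw [update_of_ne h]; exact hP i
      · by_cases h' : i = a
        · subst h'; rw [update_self]
        · rw [update_of_ne h']
          exact h i (by simp [h', hi])
    rw [← h1, ← sub_eq_zero]
    conv_lhs => rw [← update_eq_self a v]
    rw [update_idem]
    have h2 : f (update v a (v a)) - f (update v a (v' a)) = f (update v a (v a - v' a)) := by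
      rw [f.map_update_sub]
    rw [h2]
    exact H _ a (by rw [update_self]; exact hP a)

end Multi

variable {R : Type*} [CommRing R] {K M N : Type*} [AddCommGroup K] [Module R K] [AddCommGroup M] [Module R M]
  [AddCommGroup N] [Module R N]

/-- The submodule of `⋀^(n+1) M` generated by the products with the first factor in `P`. -/
def G (P : Submodule R M) (n : ℕ) : Submodule R (⋀[R]^(n + 1) M) :=
  Submodule.span R {x | ∃ v : Fin (n + 1) → M, v 0 ∈ P ∧ exteriorPower.ιMulti R (n + 1) v = x}

theorem mem_G (P : Submodule R M) {n : ℕ} (v : Fin (n + 1) → M) (i : Fin (n + 1)) (hi : v i ∈ P) :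
    exteriorPower.ιMulti R (n + 1) v ∈ G P n := by
  by_cases h : i = 0
  · subst h
    exact Submodule.subset_span ⟨v, hi, rfl⟩
  · have h1 : exteriorPower.ιMulti R (n + 1) (v ∘ Equiv.swap 0 i) = - exteriorPower.ιMulti R (n + 1) v :=
      (exteriorPower.ιMulti R (n + 1)).map_swap v (Ne.symm h)
    rw [← neg_neg (exteriorPower.ιMulti R (n + 1) v), ← h1]
    refine Submodule.neg_mem _ (Submodule.subset_span ⟨_, ?_, rfl⟩)
    rw [comp_apply, Equiv.swap_apply_left]
    exact hi

/-- The kernel of an exterior power of a surjection. -/
theorem ker_map (β : M →ₗ[R] N) (hβ : Surjective β) (n : ℕ) :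
    LinearMap.ker (exteriorPower.map (n + 1) β) = G (LinearMap.ker β) n := by
  apply le_antisymm
  · -- the alternating map induced on `N`
    let Q := (⋀[R]^(n + 1) M) ⧸ G (LinearMap.ker β) n
    let a : M [⋀^Fin (n + 1)]→ₗ[R] Q := (G (LinearMap.ker β) n).mkQ.compAlternatingMap
      (exteriorPower.ιMulti R (n + 1))
    have ha0 : ∀ (w : Fin (n + 1) → M) (i : Fin (n + 1)), w i ∈ LinearMap.ker β → a w = 0 := by
      intro w i hi
      exact (Submodule.Quotient.mk_eq_zero _).mpr (mem_G _ w i hi)
    have key : ∀ v v' : Fin (n + 1) → M, (∀ i, β (v i) = β (v' i)) → a v = a v' := by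
      intro v v' h
      refine alt_eq_of_sub a (LinearMap.ker β) ha0 v v' Finset.univ (fun i => ?_)
        (fun i hi => absurd (Finset.mem_univ i) hi)
      rw [LinearMap.mem_ker, map_sub, h i, sub_self]
    let σ := surjInv hβ
    have hσ : ∀ x, β (σ x) = x := surjInv_eq hβ
    let b : N [⋀^Fin (n + 1)]→ₗ[R] Q :=
      { toFun := fun w => a (fun i => σ (w i))
        map_update_add' := by
          intro _ w i x y
          have e1 : a (fun j => σ (update w i (x + y) j)) = a (update (fun j => σ (w j)) i (σ x + σ y)) := by
            refine key _ _ fun j => ?_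
            rw [hσ]
            by_cases h : j = i
            · subst h; simp [hσ]
            · simp only [ne_eq, h, not_false_eq_true, update_of_ne, hσ]
          have e2 : ∀ z : N, a (fun j => σ (update w i z j)) = a (update (fun j => σ (w j)) i (σ z)) := by
            intro z
            refine key _ _ fun j => ?_
            rw [hσ]
            by_cases h : j = i
            · subst h; simp [hσ]
            · simp only [ne_eq, h, not_false_eq_true, update_of_ne, hσ]
          change a (fun j => σ (update w i (x + y) j)) = a (fun j => σ (update w i x j)) +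
            a (fun j => σ (update w i y j))
          rw [e1, e2, e2, a.map_update_add]
        map_update_smul' := by
          intro _ w i c x
          have e2 : a (fun j => σ (update w i x j)) = a (update (fun j => σ (w j)) i (σ x)) := by
            refine key _ _ fun j => ?_
            rw [hσ]
            by_cases h : j = i
            · subst h; simp [hσ]
            · simp only [ne_eq, h, not_false_eq_true, update_of_ne, hσ]
          have e1 : a (fun j => σ (update w i (c • x) j)) = a (update (fun j => σ (w j)) i (c • σ x)) := by
            refine key _ _ fun j => ?_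
            rw [hσ]
            by_cases h : j = i
            · subst h; simp [hσ]
            · simp only [ne_eq, h, not_false_eq_true, update_of_ne, hσ]
          change a (fun j => σ (update w i (c • x) j)) = c • a (fun j => σ (update w i x j))
          rw [e1, e2, a.map_update_smul]
        map_eq_zero_of_eq' := by
          intro w i j hij hne
          exact a.map_eq_zero_of_eq _ (congrArg σ hij) hne }
    let L := exteriorPower.alternatingMapLinearEquiv b
    have hL : L ∘ₗ exteriorPower.map (n + 1) β = (G (LinearMap.ker β) n).mkQ := by
      apply exteriorPower.linearMap_ext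
      ext v
      simp only [LinearMap.compAlternatingMap_apply, LinearMap.comp_apply, exteriorPower.map_apply_ιMulti]
      rw [exteriorPower.alternatingMapLinearEquiv_apply_ιMulti]
      exact key _ _ fun i => hσ _
    intro x hx
    rw [← Submodule.ker_mkQ (G (LinearMap.ker β) n), ← hL, LinearMap.mem_ker, LinearMap.comp_apply,
      LinearMap.mem_ker.mp hx, map_zero]
  · rw [G, Submodule.span_le]
    rintro _ ⟨v, hv, rfl⟩
    rw [SetLike.mem_coe, LinearMap.mem_ker, exteriorPower.map_apply_ιMulti]
    exact (exteriorPower.ιMulti R (n + 1)).map_coord_zero 0 hv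

/-- The range of an exterior power. -/
theorem range_map (α : K →ₗ[R] M) (n : ℕ) :
    LinearMap.range (exteriorPower.map n α) =
      Submodule.span R {x | ∃ v : Fin n → M, (∀ i, v i ∈ LinearMap.range α) ∧ exteriorPower.ιMulti R n v = x} := by
  rw [LinearMap.range_eq_map, ← exteriorPower.ιMulti_span R n K, Submodule.map_span]
  congr 1
  ext x
  constructor
  · rintro ⟨_, ⟨w, rfl⟩, rfl⟩
    exact ⟨fun i => α (w i), fun i => ⟨w i, rfl⟩, (exteriorPower.map_apply_ιMulti α w).symm⟩
  · rintro ⟨v, hv, rfl⟩
    choose w hw using hv
    refine ⟨_, ⟨w, rfl⟩, ?_⟩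
    rw [exteriorPower.map_apply_ιMulti]
    congr 1
    funext i
    exact hw i

/-- `⋀^(n+1) α` for `range α = R e + t M`. -/
theorem range_map_elem (α : K →ₗ[R] M) (t : R) (e : M)
    (h : LinearMap.range α = Submodule.span R {e} ⊔ t • ⊤) (n : ℕ) :
    LinearMap.range (exteriorPower.map (n + 1) α) = t ^ n • G (LinearMap.range α) n := by
  have htM : ∀ m : M, t • m ∈ LinearMap.range α := fun m => by
    rw [h]
    exact Submodule.mem_sup_right (Submodule.smul_mem_pointwise_smul m t ⊤ trivial)
  apply le_antisymm
  · rw [range_map, Submodule.span_le]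
    rintro _ ⟨v, hv, rfl⟩
    rw [SetLike.mem_coe]
    let s : Set M := {e} ∪ Set.range fun m : M => t • m
    have hs : LinearMap.range α = Submodule.span R s := by
      rw [h, Submodule.span_union]
      congr 1
      apply le_antisymm
      · intro x hx
        obtain ⟨m, -, rfl⟩ := Submodule.mem_smul_pointwise_iff_exists _ _ _ |>.mp hx
        exact Submodule.subset_span ⟨m, rfl⟩
      · rw [Submodule.span_le]
        rintro _ ⟨m, rfl⟩
        exact Submodule.smul_mem_pointwise_smul m t ⊤ trivial
    refine alt_mem_of_span (exteriorPower.ιMulti R (n + 1)) _ s (fun w hw => ?_) Finset.univ v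
      (fun i => hs ▸ hv i) (fun i hi => absurd (Finset.mem_univ i) hi)
    by_cases hex : ∃ i, w i = e
    · obtain ⟨i₀, hi₀⟩ := hex
      by_cases h2 : ∃ i, i ≠ i₀ ∧ w i = e
      · obtain ⟨i, hne, hi⟩ := h2
        rw [(exteriorPower.ιMulti R (n + 1)).map_eq_zero_of_eq w (hi.trans hi₀.symm) hne]
        exact Submodule.zero_mem _
      · have h3 : ∀ i, ∃ m : M, i ≠ i₀ → w i = t • m := by
          intro i
          by_cases hne : i = i₀
          · exact ⟨0, fun h => absurd hne h⟩
          · rcases hw i with h4 | ⟨m, hm⟩
            · exact absurd ⟨i, hne, h4⟩ h2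
            · exact ⟨m, fun _ => hm.symm⟩
        choose m hm using h3
        have h5 : w = fun i => (if i = i₀ then (1 : R) else t) • (if i = i₀ then e else m i) := by
          funext i
          by_cases hne : i = i₀
          · simp [hne, hi₀]
          · simp [hne, hm i hne]
        rw [h5]
        have h6 := (exteriorPower.ιMulti R (n + 1)).toMultilinearMap.map_smul_univ
          (fun i => if i = i₀ then (1 : R) else t) (fun i => if i = i₀ then e else m i)
        rw [AlternatingMap.coe_multilinearMap] at h6
        rw [h6]
        have h7 : (∏ i, if i = i₀ then (1 : R) else t) = t ^ n := by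
          rw [Finset.prod_ite, Finset.prod_const_one, one_mul, Finset.prod_const, Finset.filter_ne' , Finset.card_erase_of_mem (Finset.mem_univ _)]
          simp
        rw [h7]
        refine Submodule.smul_mem_pointwise_smul _ _ _ (mem_G _ _ i₀ ?_)
        simp only [if_true, h]
        exact Submodule.mem_sup_left (Submodule.mem_span_singleton_self e)
    · have h3 : ∀ i, ∃ m : M, w i = t • m := by
        intro i
        rcases hw i with h4 | ⟨m, hm⟩
        · exact absurd ⟨i, h4⟩ hex
        · exact ⟨m, hm.symm⟩
      choose m hm using h3
      have h5 : w = fun i => (if i = 0 then (1 : R) else t) • (if i = 0 then t • m 0 else m i) := by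
        funext i
        by_cases hne : i = 0
        · subst hne
          simp [hm]
        · simp [hne, hm i]
      rw [h5]
      have h6 := (exteriorPower.ιMulti R (n + 1)).toMultilinearMap.map_smul_univ
        (fun i => if i = 0 then (1 : R) else t) (fun i => if i = 0 then t • m 0 else m i)
      rw [AlternatingMap.coe_multilinearMap] at h6
      rw [h6]
      have h7 : (∏ i : Fin (n + 1), if i = 0 then (1 : R) else t) = t ^ n := by
        rw [Fin.prod_univ_succ]
        simp
      rw [h7]
      refine Submodule.smul_mem_pointwise_smul _ _ _ (mem_G _ _ 0 ?_)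
      simp only [if_true]
      exact htM _
  · rw [range_map]
    intro x hx
    obtain ⟨y, hy, rfl⟩ := Submodule.mem_smul_pointwise_iff_exists _ _ _ |>.mp hx
    clear hx
    induction hy using Submodule.span_induction with
    | mem y hy =>
      obtain ⟨v, hv, rfl⟩ := hy
      refine Submodule.subset_span ⟨fun i => (if i = 0 then (1 : R) else t) • v i, fun i => ?_, ?_⟩
      · by_cases hi : i = 0
        · subst hi
          simpa using hv
        · simp only [hi, if_false]
          exact htM _
      · have h6 := (exteriorPower.ιMulti R (n + 1)).toMultilinearMap.map_smul_univ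
          (fun i => if i = 0 then (1 : R) else t) v
        rw [AlternatingMap.coe_multilinearMap] at h6
        rw [h6]
        have h7 : (∏ i : Fin (n + 1), if i = 0 then (1 : R) else t) = t ^ n := by
          rw [Fin.prod_univ_succ]
          simp
        rw [h7]
    | zero => rw [smul_zero]; exact Submodule.zero_mem _
    | add x y _ _ hx hy => rw [smul_add]; exact Submodule.add_mem _ hx hy
    | smul a x _ hx => rw [smul_comm]; exact Submodule.smul_mem _ a hx

/-- `t^n • z` lies in `t^(n-1) G` etc.: `t • z ∈ G P n` if `t M ⊆ P`. -/
theorem smul_mem_G (P : Submodule R M) (t : R) (h : ∀ m : M, t • m ∈ P) {n : ℕ} (z : ⋀[R]^(n + 1) M) :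
    t • z ∈ G P n := by
  have hz : z ∈ Submodule.span R (Set.range (exteriorPower.ιMulti R (n + 1) (M := M))) := by
    rw [exteriorPower.ιMulti_span]; trivial
  induction hz using Submodule.span_induction with
  | mem x hx =>
    obtain ⟨v, rfl⟩ := hx
    have h1 : t • exteriorPower.ιMulti R (n + 1) v = exteriorPower.ιMulti R (n + 1) (update v 0 (t • v 0)) := by
      rw [(exteriorPower.ιMulti R (n + 1)).map_update_smul, update_eq_self]
    rw [h1]
    refine mem_G _ _ 0 ?_
    rw [update_self]
    exact h _
  | zero => rw [smul_zero]; exact Submodule.zero_mem _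
  | add x y _ _ hx hy => rw [smul_add]; exact Submodule.add_mem _ hx hy
  | smul a x _ hx => rw [smul_comm]; exact Submodule.smul_mem _ a hx

/-- Injectivity of exterior powers. -/
theorem map_injective (α : K →ₗ[R] M) (hα : Injective α) (t : R) (h : ∀ m : M, t • m ∈ LinearMap.range α) (n : ℕ)
    (ht : ∀ x : ⋀[R]^n K, t ^ n • x = 0 → x = 0) : Injective (exteriorPower.map n α) := by
  choose γ hγ using h
  let g : M →ₗ[R] K :=
    { toFun := γ
      map_add' := fun x y => hα (by rw [map_add, hγ, hγ, hγ, smul_add])
      map_smul' := fun c x => hα (by rw [RingHom.id_apply, map_smul, hγ, hγ, smul_comm]) }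
  have hg : ∀ k, g (α k) = t • k := fun k => hα (by
    change α (γ (α k)) = _
    rw [hγ, map_smul])
  have h2 : ∀ x : ⋀[R]^n K, exteriorPower.map n g (exteriorPower.map n α x) = t ^ n • x := by
    intro x
    have hx : x ∈ Submodule.span R (Set.range (exteriorPower.ιMulti R n (M := K))) := by
      rw [exteriorPower.ιMulti_span]; trivial
    induction hx using Submodule.span_induction with
    | mem x hx =>
      obtain ⟨v, rfl⟩ := hx
      rw [exteriorPower.map_apply_ιMulti, exteriorPower.map_apply_ιMulti]
      have h6 := (exteriorPower.ιMulti R n).toMultilinearMap.map_smul_univ (fun _ => t) v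
      rw [AlternatingMap.coe_multilinearMap, Finset.prod_const, Finset.card_univ, Fintype.card_fin] at h6
      rw [← h6]
      congr 1
      funext i
      exact hg (v i)
    | zero => simp
    | add x y _ _ hx hy => rw [map_add, map_add, hx, hy, smul_add]
    | smul a x _ hx => rw [map_smul, map_smul, hx, smul_comm]
  rw [injective_iff_map_eq_zero]
  intro x hx
  apply ht
  rw [← h2, hx, map_zero]

end K108.ExtElem
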