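import Groth.Agent.HodgeNum.K108.Tower
import Groth.Agent.S9710
import Groth.Agent.S16277

/-!
# S16279 from the formula for the Hodge numbers of the blow-up of a rational point
-/

set_option autoImplicit false
universe u

open CategoryTheory CategoryTheory.Limits AlgebraicGeometry

namespace Groth.Agent.HodgeNum.K108.Final279

open Groth.Agent Groth.Agent.Grpsch.PicGrp ChiPic Tower

theorem main (k : Type u) [Field k] [IsAlgClosed k]
    (pc : ℕ) [Fact pc.Prime] [CharP k pc] (m : ℕ) (hm : 2 ≤ m) (e : ℤ) (n N : ℕ) {δ : ℕ → ℕ → ℕ} (HS : HodgeStep k n δ)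
    (X : Scheme.{u}) [X.Over (Spec (CommRingCat.of k))] [IsIntegral X]
    [SmoothOfRelativeDimension (n + 1) (X ↘ Spec (CommRingCat.of k))]
    (ι : X ⟶ CohB1.ProjSpace N k) [IsClosedImmersion ι] (hι : ι ≫ CohB1.ProjSpace.toSpec N k = X ↘ Spec (CommRingCat.of k)) :
    ∃ (X' : Scheme.{u}) (hX' : X'.Over (Spec (CommRingCat.of k))) (N' : ℕ) (ι' : X' ⟶ CohB1.ProjSpace N' k) (π : X' ⟶ X) (U : X.Opens),
      IsIntegral X' ∧ SmoothOfRelativeDimension (n + 1) (X' ↘ Spec (CommRingCat.of k)) ∧ IsClosedImmersion ι' ∧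
      ι' ≫ CohB1.ProjSpace.toSpec N' k = X' ↘ Spec (CommRingCat.of k) ∧ π ≫ (X ↘ Spec (CommRingCat.of k)) = X' ↘ Spec (CommRingCat.of k) ∧
      (U : Set X).Nonempty ∧ IsIso (π ∣_ U) ∧
      (∀ p q : ℕ, ∀ E' : X'.Modules, ExtPow.IsExtPow p (Omega.sheaf (X' ↘ Spec (CommRingCat.of k))) E' →
        ∀ E : X.Modules, ExtPow.IsExtPow p (Omega.sheaf (X ↘ Spec (CommRingCat.of k))) E →
          ((Module.finrank k (Coh.HH X' E' q) : ℤ) : ZMod m) = ((Module.finrank k (Coh.HH X E q) : ℤ) : ZMod m)) ∧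
      ∃ L : X'.Modules, RelAmple.IsRelVeryAmplePn (X' ↘ Spec (CommRingCat.of k)) L ∧
        ∀ M : X'.Modules, ClSub.IsInverseOf M L →
          ((FGA.eulerCharLE k X' M (n + 1) : ℤ) : ZMod m) = (e : ZMod m) ∧
          ∀ (I : X'.IdealSheafData) [I.subscheme.Over (Spec (CommRingCat.of k))],
            I.subscheme ↘ Spec (CommRingCat.of k) = I.subschemeι ≫ X' ↘ Spec (CommRingCat.of k) → Nonempty (ClSub.idealMod I ≅ M) →
            SmoothOfRelativeDimension n (I.subscheme ↘ Spec (CommRingCat.of k)) →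
            ∀ p q : ℕ, p + q + 1 ≤ n →
              ∀ F : I.subscheme.Modules, ExtPow.IsExtPow p (Omega.sheaf (I.subscheme ↘ Spec (CommRingCat.of k))) F →
              ∀ E' : X'.Modules, ExtPow.IsExtPow p (Omega.sheaf (X' ↘ Spec (CommRingCat.of k))) E' →
                Module.finrank k (Coh.HH I.subscheme F q) = Module.finrank k (Coh.HH X' E' q) := by
  have hm0 : 0 < m := by omega
  have : NeZero m := ⟨hm0.ne'⟩
  have hV : IsVar n (X ↘ Spec (CommRingCat.of k)) := ⟨inferInstance, inferInstance, N, ι, inferInstance, hι⟩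
  obtain ⟨-, H, hH⟩ := PointBlow.exists_ample_of_embedding hι
  obtain ⟨X', π, hV', hπ, hHodge, c, a', ha', hχ⟩ := tower m hm0 HS hV ⟨H, hH, rfl⟩ m
  letI hX' : X'.Over (Spec (CommRingCat.of k)) := ⟨π ≫ (X ↘ Spec (CommRingCat.of k))⟩
  obtain ⟨N', ι', hι1, hι2⟩ := hV'.proj
  obtain ⟨U, hU, hUi⟩ := hπ.exists_isIso
  have hint := hV'.integral
  have hsm : SmoothOfRelativeDimension (n + 1) (X' ↘ Spec (CommRingCat.of k)) := hV'.smooth
  have hsm' : Smooth (X' ↘ Spec (CommRingCat.of k)) := SmoothOfRelativeDimension.smooth (n + 1) _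
  refine ⟨X', hX', N', ι', π, U, hint, hsm, hι1, hι2, rfl, hU, hUi, ?_, ?_⟩
  · intro p q E' hE' E hE
    have h1 := hHodge p q E' hE' E hE
    have h2 : Module.finrank k (Coh.HH X' E' q) = Module.finrank k (Coh.HH X E q) + m * δ p q := h1
    rw [h2]
    push_cast
    simp
  -- the bounds
  have h1 : ∀ t : ℕ, ∃ (A : X'.Modules) (d₀ : ℕ), t ≤ m → ∃ hA : CohB1.IsAmple A, a' t = mk A hA.1 ∧
      ∀ d : ℕ, d₀ ≤ d → RelAmple.IsRelVeryAmplePn (X' ↘ Spec (CommRingCat.of k)) (CohB1.tensorPow A d) ∧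
        ∀ M : X'.Modules, ClSub.IsInverseOf M (CohB1.tensorPow A d) →
          ∀ (I : X'.IdealSheafData) [I.subscheme.Over (Spec (CommRingCat.of k))],
            I.subscheme ↘ Spec (CommRingCat.of k) = I.subschemeι ≫ X' ↘ Spec (CommRingCat.of k) → Nonempty (ClSub.idealMod I ≅ M) →
            SmoothOfRelativeDimension n (I.subscheme ↘ Spec (CommRingCat.of k)) →
            ∀ p q : ℕ, p + q + 1 ≤ n →
              ∀ F : I.subscheme.Modules, ExtPow.IsExtPow p (Omega.sheaf (I.subscheme ↘ Spec (CommRingCat.of k))) F →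
              ∀ E' : X'.Modules, ExtPow.IsExtPow p (Omega.sheaf (X' ↘ Spec (CommRingCat.of k))) E' →
                Module.finrank k (Coh.HH I.subscheme F q) = Module.finrank k (Coh.HH X' E' q) := by
    intro t
    by_cases ht : t ≤ m
    · obtain ⟨A, hA, hAt⟩ := ha' t ht
      obtain ⟨d₁, -, h1⟩ := S9710.result (X' ↘ Spec (CommRingCat.of k)) A hA
      obtain ⟨d₂, h2⟩ := S16277.result k pc n N' X' ι' hι2 A hA
      exact ⟨A, d₁ + d₂, fun _ => ⟨hA, hAt, fun d hd => ⟨h1 d (by omega), h2 d (by omega)⟩⟩⟩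
    · exact ⟨Coh.structureModule X', 0, fun h => absurd h ht⟩
  choose A d₀ hA using h1
  let D := 1 + m * (n + 1).factorial * (Finset.range (m + 1)).sup d₀
  have hD : ∀ t ≤ m, d₀ t ≤ D := by
    intro t ht
    have h2 : d₀ t ≤ (Finset.range (m + 1)).sup d₀ := Finset.le_sup (f := d₀) (Finset.mem_range.2 (by omega))
    have h3 : (Finset.range (m + 1)).sup d₀ ≤ m * (n + 1).factorial * (Finset.range (m + 1)).sup d₀ :=
      Nat.le_mul_of_pos_left _ (Nat.mul_pos hm0 (Nat.factorial_pos _))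
    change _ ≤ 1 + m * (n + 1).factorial * (Finset.range (m + 1)).sup d₀
    omega
  -- the choice of `t`
  let z : ZMod m := (-1) ^ n * ((e : ZMod m) -
    ((chif (X ↘ Spec (CommRingCat.of k)) (n + 1) (mk H hH.1 ^ (c * D))⁻¹ : ℤ) : ZMod m))
  have ht : z.val ≤ m := (ZMod.val_lt z).le
  obtain ⟨hAm, hAt, hAd⟩ := hA z.val ht
  obtain ⟨hva, hlef⟩ := hAd D (hD _ ht)
  refine ⟨CohB1.tensorPow (A z.val) D, hva, fun M hM => ⟨?_, fun I _ => hlef M hM I⟩⟩
  have hMi : PicF.IsInvertible M := by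
    refine K882.Divisor.inv_of_mul (K882.Divisor.inv_pow hAm.1 D) ?_
    exact K882.IsoMon.isInverseOf_iff.mp hM
  have h2 : mk M hMi = (a' z.val ^ D)⁻¹ := by
    rw [eq_inv_iff_mul_eq_one, hAt, ← mk_tensorPow, mk_mul_mk, mk_eq_one_iff]
    exact hM
  have h3 : FGA.eulerCharLE k X' M (n + 1) = chif (π ≫ (X ↘ Spec (CommRingCat.of k))) (n + 1) (a' z.val ^ D)⁻¹ := by
    rw [← h2]
    rfl
  rw [h3, hχ z.val ht, ZMod.natCast_zmod_val]
  simp only [z]
  rw [← mul_assoc, ← mul_pow]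
  simp only [neg_mul_neg, one_mul, one_pow]
  ring

end Groth.Agent.HodgeNum.K108.Final279
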