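import Groth.Agent.HodgeNum.K882.Twist
import Groth.Agent.CohqA.ClosedPush
import Mathlib.CategoryTheory.Limits.Preserves.Shapes.Kernels

/-!
# Inverting an elementary modification

`D` an ideal sheaf with invertible ideal module `I`, `j` its closed immersion, `0 → A → B → j_* R → 0` exact, `B` finite
locally free, `M` inverse to `I`. Then there are `t : j^* B → R` epi and an exact sequence
`0 → B → M ⊗ A → j_* (j^* M ⊗ ker t) → 0`.
-/

set_option autoImplicit false
universe u v

open CategoryTheory CategoryTheory.Limits AlgebraicGeometry MonoidalCategory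
open Groth.Agent.VarietyB.RestrSeq K882.Coho K882.IsoMon K882.Twist
open scoped Groth.Agent.Dcoh.MonCat

namespace K108.ModSes

section Abelian

variable {C : Type u} [Category.{v} C] [Abelian C] {P A B Q R : C}

/-- From `0 → P → B → Q → 0`, `0 → A → B → R → 0` and `Q → R` under `B` get `0 → P → A → ker (Q → R) → 0`. -/
theorem exists_ses {p : P ⟶ B} {π : B ⟶ Q} {a : A ⟶ B} {r : B ⟶ R} {w₁ : p ≫ π = 0} {w₂ : a ≫ r = 0}
    (h₁ : (ShortComplex.mk p π w₁).ShortExact) (h₂ : (ShortComplex.mk a r w₂).ShortExact) (h : Q ⟶ R)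
    (hh : π ≫ h = r) :
    ∃ (u : P ⟶ A) (v : A ⟶ kernel h) (w : u ≫ v = 0), (ShortComplex.mk u v w).ShortExact := by
  have m1 : Mono p := h₁.mono_f
  have m2 : Mono a := h₂.mono_f
  have e1 : Epi π := h₁.epi_g
  have hp : p ≫ r = 0 := by rw [← hh, ← Category.assoc, w₁, zero_comp]
  let u : P ⟶ A := h₂.exact.lift p hp
  have hu : u ≫ a = p := h₂.exact.lift_f p hp
  let v : A ⟶ kernel h := kernel.lift h (a ≫ π) (by rw [Category.assoc, hh, w₂])
  have hv : v ≫ kernel.ι h = a ≫ π := kernel.lift_ι _ _ _
  have w : u ≫ v = 0 := by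
    rw [← cancel_mono (kernel.ι h), Category.assoc, hv, ← Category.assoc, hu, w₁, zero_comp]
  have mu : Mono u := by
    have : Mono (u ≫ a) := by rw [hu]; exact m1
    exact mono_of_mono u a
  have ev : Epi v := by
    have hz : pullback.fst π (kernel.ι h) ≫ r = 0 := by
      rw [← hh, ← Category.assoc, pullback.condition, Category.assoc, kernel.condition, comp_zero]
    let l : pullback π (kernel.ι h) ⟶ A := h₂.exact.lift (pullback.fst π (kernel.ι h)) hz
    have hl : l ≫ a = pullback.fst π (kernel.ι h) := h₂.exact.lift_f _ hz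
    have hlv : l ≫ v = pullback.snd π (kernel.ι h) := by
      rw [← cancel_mono (kernel.ι h), Category.assoc, hv, ← Category.assoc, hl, pullback.condition]
    have : Epi (l ≫ v) := by rw [hlv]; infer_instance
    exact epi_of_epi l v
  refine ⟨u, v, w, { exact := ?_, mono_f := mu, epi_g := ev }⟩
  refine ShortComplex.exact_of_f_is_kernel _ ?_
  refine KernelFork.IsLimit.ofι u w (fun k hk => h₁.exact.lift (k ≫ a) ?_) (fun k hk => ?_) (fun k hk m hm => ?_)
  · change (k ≫ a) ≫ π = 0
    rw [Category.assoc, ← hv, ← Category.assoc, hk, zero_comp]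
  · rw [← cancel_mono a, Category.assoc, hu]
    exact h₁.exact.lift_f _ _
  · rw [← cancel_mono p]
    refine Eq.trans ?_ (h₁.exact.lift_f _ _).symm
    change m ≫ p = k ≫ a
    rw [← hu, ← Category.assoc, hm]

/-- Replace the outer terms of a short exact sequence by isomorphic objects. -/
theorem exists_replace {S : ShortComplex C} (hS : S.ShortExact) {P Q : C} (e₁ : S.X₁ ≅ P) (e₃ : S.X₃ ≅ Q) :
    ∃ (f : P ⟶ S.X₂) (g : S.X₂ ⟶ Q) (w : f ≫ g = 0), (ShortComplex.mk f g w).ShortExact := by
  refine ⟨e₁.inv ≫ S.f, S.g ≫ e₃.hom, by simp, ?_⟩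
  refine ShortComplex.shortExact_of_iso ?_ hS
  exact ShortComplex.isoMk e₁ (Iso.refl _) e₃ (by simp) (by simp)

end Abelian

section Sch

variable {X : Scheme.{u}} (D : X.IdealSheafData) {A B : X.Modules} {R : D.subscheme.Modules} {a : A ⟶ B}
  {q : B ⟶ (Scheme.Modules.pushforward D.subschemeι).obj R} {w : a ≫ q = 0}

theorem exists_line (hS : (ShortComplex.mk a q w).ShortExact) (hB : FlatMod.IsFinLocFree B) :
    ∃ (t : (Scheme.Modules.pullback D.subschemeι).obj B ⟶ R) (_ : Epi t)
      (u : CohB1.tensorMod B (ClSub.idealMod D) ⟶ A)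
      (v : A ⟶ (Scheme.Modules.pushforward D.subschemeι).obj (kernel t)) (w : u ≫ v = 0),
      (ShortComplex.mk u v w).ShortExact := by
  have hb := Groth.Agent.VarietyB.TensCoh.HasBases.of_isFinLocFree hB
  have hR := restrSeq_shortExact hb D
  have hq : Epi q := hS.epi_g
  have hepi : Epi (restrSeq hb D).g := hR.epi_g
  have h0 : (restrSeq hb D).f ≫ q = 0 := by
    change tensIdealι B D ≫ q = 0
    have h1 : mul D B ≫ q = 0 := by
      rw [← mul_natural]
      have h2 := mul_push D (Coh.structureModule X) R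
      have h3 : mul D ((Scheme.Modules.pushforward D.subschemeι).obj R) = 0 := by
        refine Groth.Agent.Dcoh.MonTm.ext₂ _ _ fun U n s => ?_
        rw [mul_tm, val_smul_push]
        rfl
      rw [h3, comp_zero]
    rwa [mul_eq] at h1
  obtain ⟨h, hh⟩ : ∃ h : (restrSeq hb D).X₃ ⟶ (Scheme.Modules.pushforward D.subschemeι).obj R,
    (restrSeq hb D).g ≫ h = q := ⟨hR.exact.desc q h0, hR.exact.g_desc q h0⟩
  have := Groth.Agent.CohqA.ClosedPush.full (i := D.subschemeι)
  have := Groth.Agent.CohqA.ClosedPush.faithful (i := D.subschemeι)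
  obtain ⟨t, ht⟩ := (Scheme.Modules.pushforward D.subschemeι).map_surjective h
  have hepi2 : Epi h := by
    have : Epi ((restrSeq hb D).g ≫ h) := by rw [hh]; exact hq
    exact epi_of_epi (restrSeq hb D).g h
  have hte : Epi t := by
    have : Epi ((Scheme.Modules.pushforward D.subschemeι).map t) := by rw [ht]; exact hepi2
    exact (Scheme.Modules.pushforward D.subschemeι).epi_of_epi_map this
  have hlim : PreservesLimits (Scheme.Modules.pushforward D.subschemeι) :=
    (Scheme.Modules.pullbackPushforwardAdjunction D.subschemeι).rightAdjoint_preservesLimits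
  obtain ⟨u, v, w', hs⟩ := exists_ses hR hS h hh
  subst ht
  let e : kernel ((Scheme.Modules.pushforward D.subschemeι).map t) ≅
      (Scheme.Modules.pushforward D.subschemeι).obj (kernel t) :=
    (PreservesKernel.iso (Scheme.Modules.pushforward D.subschemeι) t).symm
  obtain ⟨f, g, w, h⟩ := exists_replace hs (Iso.refl _) e
  exact ⟨t, hte, f, g, w, h⟩

/-- Inverting an elementary modification. -/
theorem exists_mod (hS : (ShortComplex.mk a q w).ShortExact) (hB : FlatMod.IsFinLocFree B)
    {M : X.Modules} (hM : FlatMod.IsFinLocFree M) (hMI : c M * c (ClSub.idealMod D) = 1) :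
    ∃ (t : (Scheme.Modules.pullback D.subschemeι).obj B ⟶ R) (_ : Epi t)
      (f : B ⟶ CohB1.tensorMod M A)
      (g : CohB1.tensorMod M A ⟶ (Scheme.Modules.pushforward D.subschemeι).obj
        (CohB1.tensorMod ((Scheme.Modules.pullback D.subschemeι).obj M) (kernel t))) (w : f ≫ g = 0),
      (ShortComplex.mk f g w).ShortExact := by
  obtain ⟨t, ht, u, v, w', hs⟩ := exists_line D hS hB
  have h1 := Groth.Agent.VarietyB.ExactLoc.tensor_shortExact
    (Groth.Agent.VarietyB.TensCoh.HasBases.of_isFinLocFree hM) _ hs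
  have hc : c (CohB1.tensorMod M (CohB1.tensorMod B (ClSub.idealMod D))) = c B := by
    rw [c_tensor, c_tensor, mul_left_comm, hMI, mul_one]
  obtain ⟨e1⟩ := c_eq_iff.mp hc
  let e2 : CohB1.tensorMod M ((Scheme.Modules.pushforward D.subschemeι).obj (kernel t)) ≅
      (Scheme.Modules.pushforward D.subschemeι).obj
        (CohB1.tensorMod ((Scheme.Modules.pullback D.subschemeι).obj M) (kernel t)) :=
    Groth.Agent.VarietyB.ProjForm.projIso D.subschemeι (Groth.Agent.VarietyB.TensCoh.HasBases.of_isFinLocFree hM) _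
  obtain ⟨f, g, w, h⟩ := exists_replace h1 e1 e2
  exact ⟨t, ht, f, g, w, h⟩

end Sch

end K108.ModSes
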