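import Groth.Agent.HodgeNum.K108.ChiBlow
import Groth.Agent.HodgeNum.K108.AmpleBlow
import Groth.Agent.HodgeNum.K108.Binom
import Groth.Agent.Curves.K320.CurvePts

/-!
# Towers of blow-ups of rational points

`tower`: for `X` a smooth projective variety of dimension `n + 1` over an algebraically closed field, `H` ample, and `j` a
natural number there is a composition `π : X' ⟶ X` of `j` blow-ups of rational points and `c` such that for all `t ≤ j`
there is `A` ample on `X'` with `χ(A^{-d}) = χ(H^{-cd}) + (-1)^n t` modulo `m` for all `d` congruent to `1` modulo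
`m (n+1)!`.
-/

set_option autoImplicit false
universe u

open CategoryTheory CategoryTheory.Limits AlgebraicGeometry

namespace Groth.Agent.HodgeNum.K108.Tower

open Groth.Agent Groth.Agent.Grpsch.PicGrp ChiPic

variable {k : Type u} [Field k]

/-- A smooth projective variety of dimension `n + 1`. -/
structure IsVar (n : ℕ) {X : Scheme.{u}} (f : X ⟶ Spec (CommRingCat.of k)) : Prop where
  integral : IsIntegral X
  smooth : SmoothOfRelativeDimension (n + 1) f
  proj : ∃ (N : ℕ) (ι : X ⟶ CohB1.ProjSpace N k), IsClosedImmersion ι ∧ ι ≫ CohB1.ProjSpace.toSpec N k = f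

theorem IsVar.proper {n : ℕ} {X : Scheme.{u}} {f : X ⟶ Spec (CommRingCat.of k)} (h : IsVar n f) : IsProper f := by
  obtain ⟨N, ι, h1, h2⟩ := h.proj
  exact (PointBlow.exists_ample_of_embedding h2).1

/-- Dimension of the cohomology, with respect to an explicit structure morphism. -/
noncomputable def hf {X : Scheme.{u}} (f : X ⟶ Spec (CommRingCat.of k)) (E : X.Modules) (q : ℕ) : ℕ :=
  letI : X.Over (Spec (CommRingCat.of k)) := ⟨f⟩
  Module.finrank k (Coh.HH X E q)

/-- Euler characteristic, with respect to an explicit structure morphism. -/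
noncomputable def chif {X : Scheme.{u}} (f : X ⟶ Spec (CommRingCat.of k)) (d : ℕ) (a : Pic X) : ℤ :=
  letI : X.Over (Spec (CommRingCat.of k)) := ⟨f⟩
  chi k X d a

variable {X X₁ : Scheme.{u}}

theorem IsVar.blowUp {n : ℕ} {f : X ⟶ Spec (CommRingCat.of k)} (h : IsVar n f)
    {x : Spec (CommRingCat.of k) ⟶ X} (hx : x ≫ f = 𝟙 _) {b : X₁ ⟶ X} (hb : BlowUp.IsBlowUp b x.ker) :
    IsVar n (b ≫ f) ∧ CurvesC.Modif.IsModif b := by
  have := h.integral
  have := h.smooth
  have := h.proper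
  have hM := PointBlow.isModif n hx hb
  obtain ⟨N, ι, h1, h2⟩ := h.proj
  obtain ⟨-, H, hH⟩ := PointBlow.exists_ample_of_embedding h2
  obtain ⟨N₁, ι₁, h5, h6⟩ := PointBlow.exists_embedding (f := f) hH hb
  exact ⟨⟨hM.integral, PointBlow.smooth_blowUp n hx hb, N₁, ι₁, h5, h6⟩, hM⟩

theorem chif_blow {n : ℕ} {f : X ⟶ Spec (CommRingCat.of k)} (h : IsVar n f)
    {x : Spec (CommRingCat.of k) ⟶ X} (hx : x ≫ f = 𝟙 _) {b : X₁ ⟶ X} (hb : BlowUp.IsBlowUp b x.ker)
    (hI : PicF.IsInvertible (ClSub.idealMod (x.ker.comap b))) (a : Pic X) (j : ℕ) :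
    chif (b ≫ f) (n + 1) (pull b a * (mk _ hI ^ j)⁻¹) = chif f (n + 1) a + (-1) ^ n * (j.choose (n + 1) : ℤ) := by
  have := h.integral
  let _ : X.Over (Spec (CommRingCat.of k)) := ⟨f⟩
  let _ : X₁.Over (Spec (CommRingCat.of k)) := ⟨b ≫ f⟩
  have h1 : IsProper (X ↘ Spec (CommRingCat.of k)) := h.proper
  have h2 : SmoothOfRelativeDimension (n + 1) (X ↘ Spec (CommRingCat.of k)) := h.smooth
  exact ChiBlow.chi_blow n rfl hx hb hI a j

/-- The class of an ample module. -/
def IsAmp (a : Pic X) : Prop := ∃ (A : X.Modules) (hA : CohB1.IsAmple A), a = mk A hA.1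

theorem exists_isAmp {J : X.IdealSheafData} {b : X₁ ⟶ X} (hb : BlowUp.IsBlowUp b J)
    [QuasiCompact b] (hI : PicF.IsInvertible (ClSub.idealMod (J.comap b))) {a : Pic X} (ha : IsAmp a) {r : ℕ} (hr : 0 < r) :
    ∃ n₀ : ℕ, ∀ n : ℕ, n₀ ≤ n → IsAmp (mk _ hI ^ r * pull b (a ^ n)) := by
  obtain ⟨A, hA, rfl⟩ := ha
  obtain ⟨n₀, h⟩ := AmpleBlow.exists_isAmple hb hA hr
  refine ⟨n₀, fun n hn => ⟨_, h n hn, ?_⟩⟩
  rw [← mk_tensorPow, ← mk_tensorPow]
  rfl

/-- One step of the tower. -/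
theorem exists_step {n : ℕ} (m : ℕ) (hm : 0 < m) {f : X ⟶ Spec (CommRingCat.of k)} (h : IsVar n f)
    {x : Spec (CommRingCat.of k) ⟶ X} (hx : x ≫ f = 𝟙 _) {b : X₁ ⟶ X} (hb : BlowUp.IsBlowUp b x.ker)
    (j : ℕ) (a : ℕ → Pic X) (ha : ∀ t ≤ j, IsAmp (a t)) :
    ∃ (s : ℕ) (a' : ℕ → Pic X₁), (∀ t ≤ j + 1, IsAmp (a' t)) ∧
      ∀ t ≤ j + 1, ∀ r : ℕ,
        ((chif (b ≫ f) (n + 1) (a' t ^ (1 + m * (n + 1).factorial * r))⁻¹ : ℤ) : ZMod m) =
        ((chif f (n + 1) (a (min t j) ^ ((1 + m * (n + 1).factorial * s) * (1 + m * (n + 1).factorial * r)))⁻¹ : ℤ) : ZMod m) +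
          (-1) ^ n * (if t ≤ j then 0 else 1) := by
  have := h.proper
  have hM := (h.blowUp hx hb).2
  have := hM.proper
  have hI : PicF.IsInvertible (ClSub.idealMod (x.ker.comap b)) := Dix.IdealModCartier.isInvertible_idealMod hb.1
  have hpos : 0 < m * (n + 1).factorial := Nat.mul_pos hm (Nat.factorial_pos _)
  -- bounds
  have h1 : ∀ t : ℕ, ∃ n₀ : ℕ, t ≤ j → ∀ N : ℕ, n₀ ≤ N →
      IsAmp (mk _ hI ^ (m * (n + 1).factorial) * pull b (a t ^ N)) := by
    intro t
    by_cases ht : t ≤ j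
    · obtain ⟨n₀, h⟩ := exists_isAmp hb hI (ha t ht) hpos
      exact ⟨n₀, fun _ => h⟩
    · exact ⟨0, fun h => absurd h ht⟩
  choose n₀ hn₀ using h1
  obtain ⟨n₁, hn₁⟩ := exists_isAmp hb hI (ha j le_rfl) (Nat.succ_pos n)
  let s := (Finset.range (j + 1)).sup n₀ + n₁
  have hs : s ≤ 1 + m * (n + 1).factorial * s := by
    have : s ≤ m * (n + 1).factorial * s := Nat.le_mul_of_pos_left s hpos
    omega
  refine ⟨s, fun t => if t ≤ j then mk _ hI ^ (m * (n + 1).factorial) * pull b (a t ^ (1 + m * (n + 1).factorial * s))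
    else mk _ hI ^ (n + 1) * pull b (a j ^ (1 + m * (n + 1).factorial * s)), ?_, ?_⟩
  · intro t ht
    by_cases htj : t ≤ j
    · simp only [htj, if_true]
      refine hn₀ t htj _ (le_trans ?_ hs)
      have : n₀ t ≤ (Finset.range (j + 1)).sup n₀ := Finset.le_sup (f := n₀) (Finset.mem_range.2 (by omega))
      omega
    · simp only [htj, if_false]
      exact hn₁ _ (le_trans (Nat.le_add_left _ _) hs)
  · intro t ht r
    have key : ∀ (e : ℕ) (y : Pic X), (mk _ hI ^ e * pull b (y ^ (1 + m * (n + 1).factorial * s))) ^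
        (1 + m * (n + 1).factorial * r) = mk _ hI ^ (e * (1 + m * (n + 1).factorial * r)) *
        pull b (y ^ ((1 + m * (n + 1).factorial * s) * (1 + m * (n + 1).factorial * r))) := by
      intro e y
      rw [mul_pow, ← pow_mul, ← map_pow, ← pow_mul]
    have key2 : ∀ (e : ℕ) (y : Pic X), (mk _ hI ^ e * pull b y)⁻¹ = pull b y⁻¹ * (mk _ hI ^ e)⁻¹ := by
      intro e y
      rw [mul_inv_rev, map_inv]
    by_cases htj : t ≤ j
    · simp only [htj, if_true, min_eq_left htj]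
      rw [key, key2, chif_blow h hx hb hI]
      push_cast
      congr 1
      have h0 := Binom.cast_choose_zero m (n + 1) (1 + m * (n + 1).factorial * r) (Nat.succ_pos n)
      rw [h0]
    · have hjt : j ≤ t := by omega
      simp only [htj, if_false, min_eq_right hjt]
      rw [key, key2, chif_blow h hx hb hI]
      push_cast
      congr 1
      have h0 := Binom.cast_choose_one m (n + 1) r
      rw [h0]

/-- The change of Hodge numbers under the blow-up of a rational point, as a hypothesis. -/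
def HodgeStep (k : Type u) [Field k] (n : ℕ) (δ : ℕ → ℕ → ℕ) : Prop :=
  ∀ {X X₁ : Scheme.{u}} (f : X ⟶ Spec (CommRingCat.of k)) (_ : IsVar n f) (x : Spec (CommRingCat.of k) ⟶ X)
    (_ : x ≫ f = 𝟙 _) (b : X₁ ⟶ X) (_ : BlowUp.IsBlowUp b x.ker) (p q : ℕ)
    (E' : X₁.Modules) (_ : ExtPow.IsExtPow p (Omega.sheaf (b ≫ f)) E')
    (E : X.Modules) (_ : ExtPow.IsExtPow p (Omega.sheaf f) E), hf (b ≫ f) E' q = hf f E q + δ p q

/-- The tower of blow-ups. -/
theorem tower [IsAlgClosed k] {n : ℕ} (m : ℕ) (hm : 0 < m) {δ : ℕ → ℕ → ℕ} (HS : HodgeStep k n δ)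
    {f : X ⟶ Spec (CommRingCat.of k)} (h : IsVar n f) {a : Pic X} (ha : IsAmp a) (j : ℕ) :
    ∃ (X' : Scheme.{u}) (π : X' ⟶ X), IsVar n (π ≫ f) ∧ CurvesC.Modif.IsModif π ∧
      (∀ (p q : ℕ) (E' : X'.Modules), ExtPow.IsExtPow p (Omega.sheaf (π ≫ f)) E' →
        ∀ E : X.Modules, ExtPow.IsExtPow p (Omega.sheaf f) E → hf (π ≫ f) E' q = hf f E q + j * δ p q) ∧
      ∃ (c : ℕ) (a' : ℕ → Pic X'), (∀ t ≤ j, IsAmp (a' t)) ∧
        ∀ t ≤ j, ∀ r : ℕ,
          ((chif (π ≫ f) (n + 1) (a' t ^ (1 + m * (n + 1).factorial * r))⁻¹ : ℤ) : ZMod m) =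
          ((chif f (n + 1) (a ^ (c * (1 + m * (n + 1).factorial * r)))⁻¹ : ℤ) : ZMod m) + (-1) ^ n * t := by
  induction j with
  | zero =>
    refine ⟨X, 𝟙 X, by rw [Category.id_comp]; exact h, ?_, ?_, 1, fun _ => a, fun _ _ => ha, ?_⟩
    · have := h.integral
      exact ⟨inferInstance, inferInstance, ⊤, Set.univ_nonempty, inferInstance⟩
    · intro p q E' hE' E hE
      rw [Category.id_comp] at hE' ⊢
      rw [Nat.zero_mul, Nat.add_zero]
      obtain ⟨e⟩ := Sga67.TensorOps.nonempty_iso_of_isExtPow (Iso.refl _) hE' hE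
      let _ : X.Over (Spec (CommRingCat.of k)) := ⟨f⟩
      exact K882.Coho.hd_iso (k := k) ⟨e⟩ q
    · intro t ht r
      obtain rfl : t = 0 := by omega
      rw [Category.id_comp, one_mul, Nat.cast_zero, mul_zero, add_zero]
  | succ j ih =>
    obtain ⟨X', π, hV, hπ, hH, c, a', ha', hχ⟩ := ih
    have := hV.integral
    have := hV.smooth
    have := hV.proper
    obtain ⟨x, hx⟩ := K320.CurvePts.exists_section (π ≫ f)
    obtain ⟨X'', b, hb⟩ := Flat2C.BlowExist.exists_isBlowUp x.ker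
    obtain ⟨hV', hM'⟩ := hV.blowUp hx hb
    obtain ⟨s, a'', ha'', hχ'⟩ := exists_step m hm hV hx hb j a' ha'
    rw [← Category.assoc] at hV' hχ'
    refine ⟨X'', b ≫ π, hV', hM'.comp hπ, ?_, c * (1 + m * (n + 1).factorial * s), a'', ha'', ?_⟩
    · intro p q E'' hE'' E hE
      have : Smooth (π ≫ f) := SmoothOfRelativeDimension.smooth (n + 1) (π ≫ f)
      obtain ⟨A, hA⟩ := K882.Divisor.exists_pows (E := Omega.sheaf (π ≫ f)) (Vancyc.H878.OmegaRank.isFinLocFree_omega _)
      rw [Category.assoc] at hE'' ⊢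
      rw [HS (π ≫ f) hV x hx b hb p q E'' hE'' (A p) (hA p), hH p q (A p) (hA p) E hE]
      ring
    · intro t ht r
      have h3 : (1 + m * (n + 1).factorial * s) * (1 + m * (n + 1).factorial * r) =
          1 + m * (n + 1).factorial * (s + r + m * (n + 1).factorial * s * r) := by ring
      have h4 : ((min t j : ℕ) : ZMod m) + (if t ≤ j then 0 else 1) = (t : ZMod m) := by
        by_cases htj : t ≤ j
        · rw [if_pos htj, min_eq_left htj, add_zero]
        · have : t = j + 1 := by omega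
          subst this
          rw [if_neg (by omega), min_eq_right (Nat.le_succ j), Nat.cast_succ]
      rw [hχ' t ht r, h3, hχ (min t j) (min_le_right t j), ← h3, add_assoc, ← mul_add, h4, mul_assoc c]

end Groth.Agent.HodgeNum.K108.Tower
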