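import Groth.Agent.HodgeNum.K108.ModSes
import Groth.Agent.HodgeNum.K108.Tower
import Groth.Agent.HodgeNum.K882.BlowTwo
import Groth.Agent.HodgeNum.K882.ElemMod2
import Groth.Agent.ExtPow.K875.ExtTwist
import Groth.Agent.ArSurf.K482.DetSes
import Groth.Agent.Coherent.K54.ExtSes
import Groth.Agent.Fga.EulerLEAdd
import Groth.Agent.VarietyA.H0Equiv
import Groth.Agent.VarietyA.GlobalSections
import Groth.Agent.AbVar.K504.Hodge
import Groth.Agent.S11317
import Groth.Agent.S0007

/-!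
# Hodge numbers of the blow-up of a rational point

`hodgeStep`: for `X` smooth projective of dimension `n + 1` over an algebraically closed field and `X₁` the blow-up of a
rational point, `h^{p,q}(X₁) = h^{p,q}(X) + 1` if `1 ≤ p = q ≤ n`, and `h^{p,q}(X₁) = h^{p,q}(X)` otherwise.
-/

set_option autoImplicit false
universe u

open CategoryTheory CategoryTheory.Limits AlgebraicGeometry
open K882.Coho K882.IsoMon K882.Divisor

namespace Groth.Agent.HodgeNum.K108.PtHodge

open Groth.Agent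

section Gen

variable {X : Scheme.{u}}

theorem exists_c_inv {L : X.Modules} (hL : PicF.IsInvertible L) :
    ∃ M : X.Modules, PicF.IsInvertible M ∧ c L * c M = 1 := by
  obtain ⟨N', hN', h'⟩ := Grpsch.PicGrp.exists_inverse hL
  refine ⟨N', hN', ?_⟩
  rw [← c_tensor, ← c_unit, c_eq_iff]
  exact h'

theorem c_cancel {L : X.Modules} (hL : PicF.IsInvertible L) {a b : Cls X} (h : a * c L = b * c L) : a = b := by
  obtain ⟨M, -, hM⟩ := exists_c_inv hL
  rw [← mul_one a, ← mul_one b, ← hM, ← mul_assoc, ← mul_assoc, h]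

/-- A locally free sheaf of rank `1 + n` which is an extension of a given sheaf of rank `n` by a line bundle determines the
line bundle. -/
theorem c_kernel {S T : ShortComplex X.Modules} (hS : S.ShortExact) (hT : T.ShortExact) {n : ℕ}
    (h₁ : FlatMod.IsFinLocFreeOfRank 1 S.X₁) (h₁' : FlatMod.IsFinLocFreeOfRank 1 T.X₁)
    (h₃ : FlatMod.IsFinLocFreeOfRank n S.X₃) (e₂ : c S.X₂ = c T.X₂) (e₃ : c S.X₃ = c T.X₃) :
    c S.X₁ = c T.X₁ := by
  have h₃' : FlatMod.IsFinLocFreeOfRank n T.X₃ := Krr.H495.Rank.rank_iso (c_eq_iff.mp e₃).some h₃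
  obtain ⟨A, hA⟩ := exists_pows (Krr.H495.Rank.isFinLocFree_of_rank h₃)
  obtain ⟨A', hA'⟩ := exists_pows (Krr.H495.Rank.isFinLocFree_of_rank h₃')
  obtain ⟨B, hB⟩ := exists_pows (Krr.H495.Rank.isFinLocFree_of_rank (Krr.H495.Rank.rank_shortExact hS h₁ h₃))
  obtain ⟨B', hB'⟩ := exists_pows (Krr.H495.Rank.isFinLocFree_of_rank (Krr.H495.Rank.rank_shortExact hT h₁' h₃'))
  have d := c_eq_iff.mpr (K482.DetSes.det_ses hS h₁ h₃ (Sga67.TensorOps.isExtPow_one _) (hB (1 + n)) (hA n))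
  have d' := c_eq_iff.mpr (K482.DetSes.det_ses hT h₁' h₃' (Sga67.TensorOps.isExtPow_one _) (hB' (1 + n)) (hA' n))
  have hL : FlatMod.IsFinLocFreeOfRank 1 (A n) := by simpa using Krr.H495.Rank.rank_extPow h₃ (hA n)
  refine c_cancel (Ega2.QCohLocal.isFinLocFreeOfRank_one_iff.mp hL) ?_
  rw [← c_tensor, d, c_extPow_unique e₂ (hB (1 + n)) (hB' (1 + n)), ← d', c_tensor,
    c_extPow_unique e₃ (hA n) (hA' n)]

theorem flf_pow {M : X.Modules} (hM : FlatMod.IsFinLocFree M) (n : ℕ) :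
    FlatMod.IsFinLocFree (CohB1.tensorPow M n) := by
  induction n with
  | zero => exact Sga67.TensorOps.isFinLocFree_structureModule
  | succ n ih => exact flf_tensor ih hM

theorem c_pull_pow {Y : Scheme.{u}} (f : Y ⟶ X) {M : X.Modules} (hM : FlatMod.IsFinLocFree M) (n : ℕ) :
    c ((Scheme.Modules.pullback f).obj (CohB1.tensorPow M n)) = c ((Scheme.Modules.pullback f).obj M) ^ n := by
  induction n with
  | zero => rw [pow_zero]; exact c_pull_unit f
  | succ n ih =>
    rw [pow_succ, ← ih]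
    exact c_pull_tensor f (flf_pow hM n) M

end Gen

section Pt

/-- The cohomology of a point. -/
theorem hd_pt (k : Type u) [Field k] [(Spec (CommRingCat.of k)).Over (Spec (CommRingCat.of k))]
    (h : (Spec (CommRingCat.of k)) ↘ (Spec (CommRingCat.of k)) = 𝟙 _) :
    hd k (Coh.structureModule (Spec (CommRingCat.of k))) 0 = 1 := by
  let f := (Spec (CommRingCat.of k)) ↘ (Spec (CommRingCat.of k))
  let e := VarietyA.H0Equiv.hZeroEquiv (Coh.structureModule (Spec (CommRingCat.of k)))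
  let _ : Algebra k Γ(Spec (CommRingCat.of k), ⊤) := (VarietyA.GlobalSections.gl f).hom.toAlgebra
  let e' : Coh.HH (Spec (CommRingCat.of k)) (Coh.structureModule _) 0 ≃ₗ[k] Γ(Spec (CommRingCat.of k), ⊤) :=
    { e with
      map_smul' := fun c x => VarietyA.H0Equiv.hZeroEquiv_smul (Coh.structureModule _) _ x }
  have h1 : Function.Bijective (algebraMap k Γ(Spec (CommRingCat.of k), ⊤)) := by
    change Function.Bijective (VarietyA.GlobalSections.gl f).hom
    have h2 : VarietyA.GlobalSections.gl f = (Scheme.ΓSpecIso _).inv := by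
      have : f = 𝟙 _ := h
      rw [this]
      simp [VarietyA.GlobalSections.gl]
    rw [h2]
    exact ConcreteCategory.bijective_of_isIso (Scheme.ΓSpecIso (CommRingCat.of k)).inv
  have h2 : Module.finrank k Γ(Spec (CommRingCat.of k), ⊤) = 1 := by
    rw [← (LinearEquiv.ofBijective (Algebra.linearMap k Γ(Spec (CommRingCat.of k), ⊤)) h1).finrank_eq,
      Module.finrank_self]
  exact e'.finrank_eq.trans h2

end Pt

/-- `Λ^s (M ⊗ E) = M^s ⊗ Λ^s E`. -/
theorem c_ext_twist {X : Scheme.{u}} {s : ℕ} {E M A B : X.Modules} (hE : FlatMod.IsFinLocFree E)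
    (hM : FlatMod.IsFinLocFreeOfRank 1 M)
    (hA : ExtPow.IsExtPow s (CohB1.tensorMod M E) A) (hB : ExtPow.IsExtPow s E B) : c A = c M ^ s * c B := by
  have hMf := Krr.H495.Rank.isFinLocFree_of_rank hM
  obtain ⟨A', hA'⟩ := exists_pows (flf_tensor hE hMf)
  have h1 : c A = c (A' s) := c_extPow_unique (by rw [c_tensor, c_tensor, mul_comm]) hA (hA' s)
  rw [h1, c_eq_iff.mpr (K875.ExtTwist.nonempty_iso_twist hE hM (hA' s) hB), c_tensor, c_pow, mul_comm]

section K

variable {k : Type u} [Field k] {E : Scheme.{u}} [E.Over (Spec (CommRingCat.of k))] {S : ShortComplex E.Modules}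

theorem hd_extK (hS : S.ShortExact) (h₂ : FlatMod.IsFinLocFree S.X₂) (h₃ : FlatMod.IsFinLocFreeOfRank 1 S.X₃)
    (h₃' : c S.X₃ = 1) {n : ℕ}
    (hv : ∀ s, 1 ≤ s → s ≤ n → ∀ A, ExtPow.IsExtPow s S.X₂ A → ∀ q, Van A q)
    (h0 : ∀ q, hd k (Coh.structureModule E) q = if q = 0 then 1 else 0) (p : ℕ) (hp : p ≤ n) :
    ∀ A, ExtPow.IsExtPow p S.X₁ A → ∀ q, hd k A q = if q = p then 1 else 0 := by
  have h₁ : FlatMod.IsFinLocFree S.X₁ :=
    Krr.H487.KerRank.isFinLocFree_left hS h₂ (Krr.H495.Rank.isFinLocFree_of_rank h₃)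
  obtain ⟨K, hK⟩ := exists_pows h₁
  obtain ⟨B, hB⟩ := exists_pows h₂
  induction p with
  | zero =>
    intro A hA q
    rw [hd_c (c_extPow_unique rfl hA (Sga67.TensorOps.isExtPow_zero _)) q]
    exact h0 q
  | succ p ih =>
    intro A hA q
    obtain ⟨a, b, w, hT⟩ := K54.ExtSes.exists_ses hS h₃ hA (hB (p + 1)) (hK p)
    have hv' := hv (p + 1) (by omega) hp _ (hB (p + 1))
    cases q with
    | zero =>
      rw [hd_of_van (van₁_zero hT (hv' 0)), if_neg (by omega)]
    | succ q =>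
      rw [← hd₃₁ hT q (hv' q) (hv' (q + 1))]
      have h1 : c (CohB1.tensorMod (K p) S.X₃) = c (K p) := by rw [c_tensor, h₃', mul_one]
      have h2 := ih (by omega) (K p) (hK p) q
      simp only [Nat.add_right_cancel_iff]
      exact (hd_c h1 q).trans h2

end K

theorem locPrin {X : Scheme.{u}} {D : X.IdealSheafData} (h : BlowUp.IsEffCartierIdeal D) :
    K882.ElemMod.LocPrin D.subschemeι := by
  intro x
  obtain ⟨U, hx, f, hf, hU⟩ := h x
  refine ⟨U.1, hx, fun V hV => ?_⟩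
  obtain ⟨h1, h2⟩ := Dix.IdealModCartier.genOn_of_affine hf hU V hV
  refine ⟨_, h1, ?_⟩
  rw [← h2, ← Scheme.Hom.ker_apply, D.ker_subschemeι]

/-- exterior powers and pullback -/
theorem c_ext_pull {X Y : Scheme.{u}} (f : Y ⟶ X) {s : ℕ} {E A : X.Modules} {B : Y.Modules}
    (hE : FlatMod.IsFinLocFree E) (hA : ExtPow.IsExtPow s E A)
    (hB : ExtPow.IsExtPow s ((Scheme.Modules.pullback f).obj E) B) :
    c B = c ((Scheme.Modules.pullback f).obj A) := by
  refine c_extPow_unique rfl hB ?_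
  exact Krr.H487.ExtPull.isExtPow_pullback _ hE hA ⟨B, hB⟩

theorem num {k : Type u} [Field k] {X : Scheme.{u}} [X.Over (Spec (CommRingCat.of k))] {S : ShortComplex X.Modules}
    (hS : S.ShortExact) (s : ℕ) (h1 : ∀ q, FinD k S.X₁ q) (h3 : ∀ q, FinD k S.X₃ q)
    (hq : ∀ q, hd k S.X₃ q = if q = s then 1 else 0) :
    (∀ q, q ≠ s → q ≠ s + 1 → hd k S.X₁ q = hd k S.X₂ q) ∧
    ∃ r : ℕ, r ≤ 1 ∧ hd k S.X₁ s + 1 = hd k S.X₂ s + r ∧ hd k S.X₁ (s + 1) = hd k S.X₂ (s + 1) + r := by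
  have h2 : ∀ q, FinD k S.X₂ q := fun q => finD₂ hS q (h1 q) (h3 q)
  have hr : ∀ q, rk k hS q ≤ if q = s then 1 else 0 := fun q => (hq q) ▸ rk_le₃ hS q (h3 q)
  have hr0 : ∀ q, q ≠ s → rk k hS q = 0 := fun q h => by
    have := hr q
    rw [if_neg h] at this
    omega
  have hq0 : ∀ q, q ≠ s → hd k S.X₃ q = 0 := fun q h => by rw [hq, if_neg h]
  have hq1 : hd k S.X₃ s = 1 := by rw [hq, if_pos rfl]
  have l0 := hd_les_zero hS (h1 0) (h2 0) (h3 0)
  have ls := fun q => hd_les_succ hS q (h1 (q + 1)) (h2 (q + 1)) (h3 (q + 1))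
  refine ⟨fun q hqs hqs' => ?_, rk k hS s, ?_, ?_, ?_⟩
  · cases q with
    | zero =>
      have := hr0 0 hqs
      have := hq0 0 hqs
      omega
    | succ q =>
      have := hr0 q (by omega)
      have := hr0 (q + 1) hqs
      have := hq0 (q + 1) hqs
      have := ls q
      omega
  · have := hr s
    rwa [if_pos rfl] at this
  · cases s with
    | zero => omega
    | succ s =>
      have := hr0 s (by omega)
      have := ls s
      omega
  · have := hr0 (s + 1) (by omega)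
    have := hq0 (s + 1) (by omega)
    have := ls s
    omega

theorem numerics (n : ℕ) (h h' : ℕ → ℕ → ℕ) (H0 : ∀ q, h' 0 q = h 0 q)
    (H1 : ∀ s, s + 1 ≤ n → (∀ q, q ≠ s → q ≠ s + 1 → h' (s + 1) q = h (s + 1) q) ∧
      ∃ r : ℕ, r ≤ 1 ∧ h' (s + 1) s + 1 = h (s + 1) s + r ∧ h' (s + 1) (s + 1) = h (s + 1) (s + 1) + r)
    (D : ∀ s q, s ≤ n + 1 → q ≤ n + 1 → h s q = h (n + 1 - s) (n + 1 - q))
    (D' : ∀ s q, s ≤ n + 1 → q ≤ n + 1 → h' s q = h' (n + 1 - s) (n + 1 - q))
    (V : ∀ s q, n + 1 < q → h s q = 0) (V' : ∀ s q, n + 1 < q → h' s q = 0)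
    (Z : ∀ s q, n + 1 < s → h s q = 0) (Z' : ∀ s q, n + 1 < s → h' s q = 0) (p q : ℕ) :
    h' p q = h p q + if p = q ∧ 1 ≤ p ∧ p ≤ n then 1 else 0 := by
  rcases Nat.eq_zero_or_pos p with rfl | hp
  · rw [if_neg (by omega), H0, Nat.add_zero]
  by_cases hpn : p ≤ n
  · obtain ⟨s, rfl⟩ : ∃ s, p = s + 1 := ⟨p - 1, by omega⟩
    obtain ⟨h1, r, hr, h2, h3⟩ := H1 s hpn
    -- duality
    have h4 : h' (s + 1) s = h (s + 1) s := by
      rw [D (s + 1) s (by omega) (by omega), D' (s + 1) s (by omega) (by omega)]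
      obtain ⟨t, ht⟩ : ∃ t, n + 1 - (s + 1) = t + 1 := ⟨n - s - 1, by omega⟩
      have h5 : n + 1 - s = t + 2 := by omega
      rw [ht, h5]
      exact (H1 t (by omega)).1 (t + 2) (by omega) (by omega)
    by_cases hq : s + 1 = q
    · subst hq
      rw [if_pos ⟨rfl, hp, hpn⟩]
      omega
    · rw [if_neg (fun h => hq h.1), Nat.add_zero]
      by_cases hq' : q = s
      · subst hq'; exact h4
      · exact h1 q hq' (by omega)
  · rw [if_neg (by omega), Nat.add_zero]
    by_cases hpn' : p = n + 1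
    · subst hpn'
      by_cases hq : q ≤ n + 1
      · rw [D _ _ le_rfl hq, D' _ _ le_rfl hq, Nat.sub_self, H0]
      · rw [V _ _ (by omega), V' _ _ (by omega)]
    · rw [Z _ _ (by omega), Z' _ _ (by omega)]

section Main

variable {k : Type u} [Field k] {X X' : Scheme.{u}} [X.Over (Spec (CommRingCat.of k))]
  [X'.Over (Spec (CommRingCat.of k))] (b : X' ⟶ X) (i : Spec (CommRingCat.of k) ⟶ X) [IsClosedImmersion i]
  (hbk : b ≫ (X ↘ Spec (CommRingCat.of k)) = X' ↘ Spec (CommRingCat.of k))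
  (hik : i ≫ (X ↘ Spec (CommRingCat.of k)) = 𝟙 _)
  (n : ℕ) [hX : SmoothOfRelativeDimension (n + 1) (X ↘ Spec (CommRingCat.of k))]
  [IsIntegral X] [IsIntegral X'] [IsProper (X ↘ Spec (CommRingCat.of k))] (hb : BlowUp.IsBlowUp b i.ker)

include hX in
omit [IsIntegral X] [IsProper (X ↘ Spec (CommRingCat.of k))] in
theorem smX : SmoothOfRelativeDimension (0 + (n + 1)) (X ↘ Spec (CommRingCat.of k)) := by
  rw [Nat.zero_add]; exact hX

include hik in
omit [IsIntegral X] [IsProper (X ↘ Spec (CommRingCat.of k))] [IsClosedImmersion i] in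
theorem smZ : SmoothOfRelativeDimension 0 (i ≫ (X ↘ Spec (CommRingCat.of k))) := by
  rw [hik]; infer_instance

include hX hik hbk hb in
/-- `h^q(X', M^a ⊗ b^* V) = h^q(X, V)` for `a ≤ n`. -/
theorem hd_pow {M : X'.Modules} (hM : FlatMod.IsFinLocFree M)
    (hMI : c M * c (ClSub.idealMod (i.ker.comap b)) = 1) {V : X.Modules} (hV : FlatMod.IsFinLocFree V) (a : ℕ)
    (ha : a ≤ n) {F : X'.Modules} (hF : c F = c M ^ a * c ((Scheme.Modules.pullback b).obj V)) (q : ℕ) :
    hd k F q = hd k V q := by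
  have := smX (X := X) (k := k) n
  have := smZ i hik
  induction a generalizing F q with
  | zero =>
    rw [pow_zero, one_mul] at hF
    rw [hd_c hF q]
    exact K882.BlowOmega.hd_pullback b i hbk 0 n hb hV q
  | succ a ih =>
    have hbV := PerfB.FlatPull.isFinLocFree_pullback b hV
    have e1 : c (CohB1.tensorMod (CohB1.tensorPow M (a + 1)) ((Scheme.Modules.pullback b).obj V)) = c F := by
      rw [c_tensor, c_pow, hF]
    have hFf : FlatMod.IsFinLocFree F := flf_c e1 (flf_tensor (flf_pow hM (a + 1)) hbV)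
    have hR := VarietyB.RestrSeq.restrSeq_shortExact (VarietyB.TensCoh.HasBases.of_isFinLocFree hFf) (i.ker.comap b)
    have hv : ∀ q, Van ((Scheme.Modules.pullback (i.ker.comap b).subschemeι).obj F) q := by
      intro q
      refine K882.BlowOmega.van_exc (X ↘ Spec (CommRingCat.of k)) b i 0 n hb hM hMI (Nat.succ_pos a) ha
        (PerfB.FlatPull.isFinLocFree_pullback i hV) ?_ q
      rw [← c_pull_iso _ e1, c_pull_tensor _ (flf_pow hM (a + 1)), c_pull_pow _ hM, K882.BlowOmega.c_res]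
    have h1 : c (CohB1.tensorMod F (ClSub.idealMod (i.ker.comap b))) =
        c M ^ a * c ((Scheme.Modules.pullback b).obj V) := by
      rw [c_tensor, hF, pow_succ, mul_assoc, mul_comm (c ((Scheme.Modules.pullback b).obj V)), ← mul_assoc,
        mul_assoc (c M ^ a), hMI, mul_one]
    have h2 := fun q => ih (by omega) h1 q
    rw [← h2]
    cases q with
    | zero => exact (hd₁₂_zero hR (van_push' _ _ _ (hv 0))).symm
    | succ q => exact (hd₁₂_succ hR q (van_push' _ _ _ (hv q)) (van_push' _ _ _ (hv (q + 1)))).symm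

include hX hik hbk hb in
omit [IsIntegral X] [IsIntegral X'] in
/-- The cohomology of the structure sheaf of the exceptional divisor. -/
theorem hd_exc [(i.ker.comap b).subscheme.Over (Spec (CommRingCat.of k))]
    (hE : (i.ker.comap b).subschemeι ≫ (X' ↘ Spec (CommRingCat.of k)) =
      (i.ker.comap b).subscheme ↘ Spec (CommRingCat.of k)) (q : ℕ) :
    hd k (Coh.structureModule (i.ker.comap b).subscheme) q = if q = 0 then 1 else 0 := by
  have := smX (X := X) (k := k) n
  have := smZ i hik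
  let _ : (Spec (CommRingCat.of k)).Over (Spec (CommRingCat.of k)) := ⟨𝟙 _⟩
  have hg : K882.BlowOmega.gE b i ≫ (Spec (CommRingCat.of k) ↘ Spec (CommRingCat.of k)) =
      (i.ker.comap b).subscheme ↘ Spec (CommRingCat.of k) := by
    change K882.BlowOmega.gE b i ≫ 𝟙 _ = _
    rw [← hE, ← hbk, ← hik, ← Category.assoc, ← Category.assoc, (K882.BlowOmega.isPullback_gE b i).w]
  rw [← hd_c (c_pull_unit (K882.BlowOmega.gE b i)) q,
    K882.RelLeray.hd_pull (K882.BlowOmega.gE b i) k hg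
    (K882.BlowTwo.isZero_R_gE (X ↘ Spec (CommRingCat.of k)) b i 0 n hb)
    (K882.BlowTwo.c_push_gE (X ↘ Spec (CommRingCat.of k)) b i 0 n hb)
    Sga67.TensorOps.isFinLocFree_structureModule q]
  cases q with
  | zero => exact hd_pt k rfl
  | succ q =>
    rw [if_neg (by omega)]
    refine hd_of_van ?_
    have : Coh.IsQCoh (Coh.structureModule (Spec (CommRingCat.of k))) :=
      Ega2.QCohLocal.isQCoh_of_isFinLocFree Sga67.TensorOps.isFinLocFree_structureModule
    exact S0007.result (Spec (CommRingCat.of k)) (Coh.structureModule (Spec (CommRingCat.of k))) (q + 1) (by omega)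

include hik hbk in
omit [IsIntegral X] [IsIntegral X'] [IsProper (X ↘ Spec (CommRingCat.of k))] in
theorem gE_eq : K882.BlowOmega.gE b i = (i.ker.comap b).subschemeι ≫ (X' ↘ Spec (CommRingCat.of k)) := by
  rw [← hbk, ← Category.assoc, (K882.BlowOmega.isPullback_gE b i).w, Category.assoc, hik, Category.comp_id]

include hX hik hbk hb in
omit [IsIntegral X] [IsIntegral X'] [IsProper (X ↘ Spec (CommRingCat.of k))] in
theorem smX' : SmoothOfRelativeDimension (n + 1) (X' ↘ Spec (CommRingCat.of k)) := by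
  have hX0 := smX (X := X) (k := k) n
  have hZ0 := smZ i hik
  rw [← hbk, ← Nat.zero_add (n + 1)]
  exact Lefpen.H709.Geo.smooth_blowUp (X ↘ Spec (CommRingCat.of k)) i.ker 0 n inferInstance
    (K882.BlowOmega.smooth_ker i _ 0) hb

include hX hik hbk hb in
omit [IsIntegral X] in
/-- The modification of `Ω_{X'}` by `M ⊗ b^* Ω_X`. -/
theorem exists_mod {M : X'.Modules} (hM : FlatMod.IsFinLocFree M)
    (hMI : c M * c (ClSub.idealMod (i.ker.comap b)) = 1) :
    ∃ (L : (i.ker.comap b).subscheme.Modules)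
      (f : Omega.sheaf (X' ↘ Spec (CommRingCat.of k)) ⟶ CohB1.tensorMod M
        ((Scheme.Modules.pullback b).obj (Omega.sheaf (X ↘ Spec (CommRingCat.of k)))))
      (g : CohB1.tensorMod M ((Scheme.Modules.pullback b).obj (Omega.sheaf (X ↘ Spec (CommRingCat.of k)))) ⟶
        (Scheme.Modules.pushforward (i.ker.comap b).subschemeι).obj L) (w : f ≫ g = 0),
      (ShortComplex.mk f g w).ShortExact ∧ c L = 1 := by
  have hX0 := smX (X := X) (k := k) n
  have hZ0 := smZ i hik
  have hX' := smX' b i hbk hik n hb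
  have : IsLocallyNoetherian X := LocallyOfFiniteType.isLocallyNoetherian (X ↘ Spec (CommRingCat.of k))
  have hpb := K882.BlowOmega.isProper_b b i hb
  have hpg := K882.BlowOmega.isProper_gE b i hb
  have hsg := K882.BlowVan.smooth_of_twist (K882.BlowOmega.isTwist (X ↘ Spec (CommRingCat.of k)) b i 0 n hb)
  have hsg' : Smooth (K882.BlowOmega.gE b i) := hsg.smooth
  have hpX' : IsProper (X' ↘ Spec (CommRingCat.of k)) := by rw [← hbk]; infer_instance
  have hge := gE_eq b i hbk hik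
  have hsj : Smooth ((i.ker.comap b).subschemeι ≫ (X' ↘ Spec (CommRingCat.of k))) := by rw [← hge]; exact hsg'
  have hΩ := Vancyc.H878.OmegaRank.isFinLocFreeOfRank_omega (n + 1) (X ↘ Spec (CommRingCat.of k))
  have hΩ' := Vancyc.H878.OmegaRank.isFinLocFreeOfRank_omega (n + 1) (X' ↘ Spec (CommRingCat.of k))
  have hΩg := Vancyc.H878.OmegaRank.isFinLocFreeOfRank_omega n (K882.BlowOmega.gE b i)
  have hI := K882.BlowOmega.inv_idealMod b i hb
  have hSE := K882.BlowCot.shortExact (X ↘ Spec (CommRingCat.of k)) (X' ↘ Spec (CommRingCat.of k)) b hbk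
    (i.ker.comap b).subschemeι (K882.BlowOmega.gE b i) i (K882.BlowOmega.isPullback_gE b i).w hΩ hΩ'
    (fun x => K882.BlowGC.exists_gc _ _ b _ hb (Scheme.IdealSheafData.ker_subschemeι _) x)
  obtain ⟨t, ht, f, g, w, hs⟩ := _root_.K108.ModSes.exists_mod _ hSE (Krr.H495.Rank.isFinLocFree_of_rank hΩ') hM hMI
  refine ⟨_, f, g, w, hs, ?_⟩
  have hkt := Krr.H487.KerRank.shortExact_kernel t
  have hjΩ' := Vancyc.H878.Triv.isFinLocFreeOfRank_pullback (i.ker.comap b).subschemeι hΩ'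
  have hkt1 : FlatMod.IsFinLocFreeOfRank 1 (kernel t) := by
    rw [Nat.add_comm] at hjΩ'
    exact Krr.H487.KerRank.isFinLocFreeOfRank_left hkt hjΩ' hΩg
  obtain ⟨T, hT, ⟨e1⟩, ⟨e2⟩, ⟨e3⟩⟩ := K882.Conormal.exists_shortExact (i.ker.comap b).subschemeι
    (X' ↘ Spec (CommRingCat.of k))
  have hT1 : c T.X₁ = c ((Scheme.Modules.pullback (i.ker.comap b).subschemeι).obj (ClSub.idealMod (i.ker.comap b))) := by
    rw [c_iso e1, K882.BlowOmega.c_conormal]
  have hT1' : FlatMod.IsFinLocFreeOfRank 1 T.X₁ := by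
    rw [Ega2.QCohLocal.isFinLocFreeOfRank_one_iff]
    exact inv_c hT1.symm (Fdesc.LocGen.isInvertible_pullback _ hI)
  have hk := c_kernel hkt hT hkt1 hT1' hΩg (c_iso e2).symm (by
    rw [c_iso e3, ← hge])
  rw [c_tensor]
  change _ * c (kernel t) = 1
  have hk' : c (kernel t) = c T.X₁ := hk
  rw [hk', hT1, ← c_pull_tensor _ hM]
  exact (c_pull_iso _ (show c (CohB1.tensorMod M (ClSub.idealMod (i.ker.comap b))) = c (Coh.structureModule X')
      from hMI)).trans (c_pull_unit _)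

include hX hik hbk hb in
/-- The Hodge numbers `h^{s + 1, q}` of the blow-up. -/
theorem hodge_succ (s : ℕ) (hs : s + 1 ≤ n) {A' : X'.Modules}
    (hA' : ExtPow.IsExtPow (s + 1) (Omega.sheaf (X' ↘ Spec (CommRingCat.of k))) A') {A : X.Modules}
    (hA : ExtPow.IsExtPow (s + 1) (Omega.sheaf (X ↘ Spec (CommRingCat.of k))) A) :
    (∀ q, q ≠ s → q ≠ s + 1 → hd k A' q = hd k A q) ∧
    ∃ r : ℕ, r ≤ 1 ∧ hd k A' s + 1 = hd k A s + r ∧ hd k A' (s + 1) = hd k A (s + 1) + r := by
  have hX0 := smX (X := X) (k := k) n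
  have hZ0 := smZ i hik
  have hX' := smX' b i hbk hik n hb
  have : IsLocallyNoetherian X := LocallyOfFiniteType.isLocallyNoetherian (X ↘ Spec (CommRingCat.of k))
  have hpb := K882.BlowOmega.isProper_b b i hb
  have hpX' : IsProper (X' ↘ Spec (CommRingCat.of k)) := by rw [← hbk]; infer_instance
  let _ : (i.ker.comap b).subscheme.Over (Spec (CommRingCat.of k)) :=
    ⟨(i.ker.comap b).subschemeι ≫ (X' ↘ Spec (CommRingCat.of k))⟩
  have hE : (i.ker.comap b).subschemeι ≫ (X' ↘ Spec (CommRingCat.of k)) =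
    (i.ker.comap b).subscheme ↘ Spec (CommRingCat.of k) := rfl
  have hpE : IsProper ((i.ker.comap b).subscheme ↘ Spec (CommRingCat.of k)) := by rw [← hE]; infer_instance
  have hΩ := Krr.H495.Rank.isFinLocFree_of_rank
    (Vancyc.H878.OmegaRank.isFinLocFreeOfRank_omega (n + 1) (X ↘ Spec (CommRingCat.of k)))
  have hΩ' := Krr.H495.Rank.isFinLocFree_of_rank
    (Vancyc.H878.OmegaRank.isFinLocFreeOfRank_omega (n + 1) (X' ↘ Spec (CommRingCat.of k)))
  obtain ⟨M, hMi, hMI'⟩ := exists_c_inv (K882.BlowOmega.inv_idealMod b i hb)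
  have hMI : c M * c (ClSub.idealMod (i.ker.comap b)) = 1 := by rw [mul_comm, hMI']
  have hM := flf_of_inv hMi
  have hbΩ := PerfB.FlatPull.isFinLocFree_pullback b hΩ
  have hMbΩ := flf_tensor hM hbΩ
  obtain ⟨L, f, g, w, hS, hL⟩ := exists_mod b i hbk hik n hb hM hMI
  have hL1 : FlatMod.IsFinLocFreeOfRank 1 L :=
    Krr.H495.Rank.rank_iso (c_eq_iff.mp (hL.trans c_unit.symm)).some.symm
      Krr.H495.Rank.isFinLocFreeOfRank_structureModule
  have he : Epi g := hS.epi_g
  have hea : Epi (Krr.H487.LocBasisPull.adj (i.ker.comap b).subschemeι g) := (K811.KerComp.main _ _ L g).1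
  have hS' := Krr.H487.KerRank.shortExact_kernel (Krr.H487.LocBasisPull.adj (i.ker.comap b).subschemeι g)
  have hjB := PerfB.FlatPull.isFinLocFree_pullback (i.ker.comap b).subschemeι hMbΩ
  have hK : FlatMod.IsFinLocFree (kernel (Krr.H487.LocBasisPull.adj (i.ker.comap b).subschemeι g)) :=
    Krr.H487.KerRank.isFinLocFree_left hS' hjB (Krr.H495.Rank.isFinLocFree_of_rank hL1)
  obtain ⟨B, hB⟩ := exists_pows hMbΩ
  obtain ⟨K, hKp⟩ := exists_pows hK
  obtain ⟨a, bb, w', hT⟩ := K882.ElemMod.exists_ses f g w (locPrin hb.1) hS hΩ' hMbΩ hL1 hA' (hB (s + 1)) (hKp s)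
  -- the middle term
  have hAf : FlatMod.IsFinLocFree A := Sga67.LocBasis.isFinLocFree_of_isExtPow hΩ hA
  obtain ⟨A1, hA1⟩ := exists_pows hbΩ
  have h2 : ∀ q, hd k (B (s + 1)) q = hd k A q := by
    refine hd_pow b i hbk hik n hb hM hMI hAf (s + 1) hs ?_
    rw [c_ext_twist hbΩ (Ega2.QCohLocal.isFinLocFreeOfRank_one_iff.mpr hMi) (hB (s + 1)) (hA1 (s + 1)),
      c_ext_pull b hΩ hA (hA1 (s + 1))]
  -- vanishing on the exceptional divisor
  have hiΩ := PerfB.FlatPull.isFinLocFree_pullback i hΩ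
  have hgiΩ := PerfB.FlatPull.isFinLocFree_pullback (K882.BlowOmega.gE b i) hiΩ
  have hjM := PerfB.FlatPull.isFinLocFree_pullback (i.ker.comap b).subschemeι hM
  have hjMi := Fdesc.LocGen.isInvertible_pullback (i.ker.comap b).subschemeι hMi
  obtain ⟨G, hG⟩ := exists_pows hiΩ
  obtain ⟨G', hG'⟩ := exists_pows hgiΩ
  obtain ⟨B', hB'⟩ := exists_pows (flf_tensor hjM hgiΩ)
  have hv : ∀ s, 1 ≤ s → s ≤ n → ∀ A, ExtPow.IsExtPow s ((Scheme.Modules.pullback (i.ker.comap b).subschemeι).obj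
      (CohB1.tensorMod M ((Scheme.Modules.pullback b).obj (Omega.sheaf (X ↘ Spec (CommRingCat.of k)))))) A →
      ∀ q, Van A q := by
    intro s hs1 hsn A hA q
    refine K882.BlowOmega.van_exc (X ↘ Spec (CommRingCat.of k)) b i 0 n hb hM hMI hs1 hsn (G := G s)
      (Sga67.LocBasis.isFinLocFree_of_isExtPow hiΩ (hG s)) ?_ q
    have e1 : c A = c (B' s) := by
      refine c_extPow_unique ?_ hA (hB' s)
      rw [c_pull_tensor _ hM, K882.BlowOmega.c_res, c_tensor]
    rw [e1, c_ext_twist hgiΩ (Ega2.QCohLocal.isFinLocFreeOfRank_one_iff.mpr hjMi) (hB' s) (hG' s),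
      c_ext_pull _ hiΩ (hG s) (hG' s)]
  have h3 : ∀ q, hd k ((Scheme.Modules.pushforward (i.ker.comap b).subschemeι).obj (CohB1.tensorMod (K s) L)) q =
      if q = s then 1 else 0 := by
    intro q
    rw [hd_push k _ hE]
    have e1 : c (CohB1.tensorMod (K s) L) = c (K s) := by rw [c_tensor, hL, mul_one]
    rw [hd_c e1 q]
    exact hd_extK hS' hjB hL1 hL hv (hd_exc b i hbk hik n hb hE) s (by omega) _ (hKp s) q
  have f1 : ∀ q, FinD k A' q := K882.BlowOmega.finD_flf (Sga67.LocBasis.isFinLocFree_of_isExtPow hΩ' hA')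
  have f3 : ∀ q, FinD k ((Scheme.Modules.pushforward (i.ker.comap b).subschemeι).obj (CohB1.tensorMod (K s) L)) q :=
    fun q => K882.BlowOmega.finD_push _ hE (K882.BlowOmega.finD_flf (flf_tensor
      (Sga67.LocBasis.isFinLocFree_of_isExtPow hK (hKp s)) (Krr.H495.Rank.isFinLocFree_of_rank hL1)) q)
  have := num hT s f1 f3 h3
  simp only [h2] at this
  exact this

include hX hik hbk hb in
/-- The Hodge numbers `h^{0, q}` of the blow-up. -/
theorem hodge_zero {A' : X'.Modules}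
    (hA' : ExtPow.IsExtPow 0 (Omega.sheaf (X' ↘ Spec (CommRingCat.of k))) A') {A : X.Modules}
    (hA : ExtPow.IsExtPow 0 (Omega.sheaf (X ↘ Spec (CommRingCat.of k))) A) (q : ℕ) : hd k A' q = hd k A q := by
  have hX0 := smX (X := X) (k := k) n
  have hZ0 := smZ i hik
  rw [hd_c (c_extPow_unique rfl hA' (Sga67.TensorOps.isExtPow_zero _)) q,
    hd_c (c_extPow_unique rfl hA (Sga67.TensorOps.isExtPow_zero _)) q,
    ← K882.BlowOmega.hd_pullback b i hbk 0 n hb Sga67.TensorOps.isFinLocFree_structureModule q]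
  exact hd_c (c_pull_unit b).symm q

end Main

/-- **The Hodge numbers of the blow-up of a rational point.** -/
theorem hodgeStep (k : Type u) [Field k] [IsAlgClosed k] (n : ℕ) :
    Tower.HodgeStep k n (fun p q => if p = q ∧ 1 ≤ p ∧ p ≤ n then 1 else 0) := by
  intro X X₁ f hV x hx b hb p q E' hE' E hE
  have := hV.integral
  have := hV.smooth
  have hp := hV.proper
  have hcx := PointBlow.isClosedImmersion hx
  obtain ⟨hV', hM'⟩ := hV.blowUp hx hb
  have := hV'.integral
  have hs' := hV'.smooth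
  have hp' := hV'.proper
  let _ : X.Over (Spec (CommRingCat.of k)) := ⟨f⟩
  let _ : X₁.Over (Spec (CommRingCat.of k)) := ⟨b ≫ f⟩
  have i1 : IsProper (X ↘ Spec (CommRingCat.of k)) := hp
  have i2 : SmoothOfRelativeDimension (n + 1) (X ↘ Spec (CommRingCat.of k)) := hV.smooth
  have i1' : IsProper (X₁ ↘ Spec (CommRingCat.of k)) := hp'
  have i2' : SmoothOfRelativeDimension (n + 1) (X₁ ↘ Spec (CommRingCat.of k)) := hs'
  obtain ⟨N, ι, hι, hι'⟩ := hV.proj
  obtain ⟨N', ι', hι1, hι1'⟩ := hV'.proj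
  have hΩr := Vancyc.H878.OmegaRank.isFinLocFreeOfRank_omega (n + 1) (X ↘ Spec (CommRingCat.of k))
  have hΩr' := Vancyc.H878.OmegaRank.isFinLocFreeOfRank_omega (n + 1) (X₁ ↘ Spec (CommRingCat.of k))
  have hΩ := Krr.H495.Rank.isFinLocFree_of_rank hΩr
  have hΩ' := Krr.H495.Rank.isFinLocFree_of_rank hΩr'
  obtain ⟨A, hA⟩ := exists_pows hΩ
  obtain ⟨A', hA'⟩ := exists_pows hΩ'
  have hN : IsNoetherian X := Fga.IntAdd.isNoetherian k X
  have hN' : IsNoetherian X₁ := Fga.IntAdd.isNoetherian k X₁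
  have hdim : topologicalKrullDim X ≤ ((n + 1 : ℕ) : WithBot ℕ∞) :=
    (K504.Hodge.topologicalKrullDim_eq (X ↘ Spec (CommRingCat.of k)) (n + 1)).le
  have hdim' : topologicalKrullDim X₁ ≤ ((n + 1 : ℕ) : WithBot ℕ∞) :=
    (K504.Hodge.topologicalKrullDim_eq (X₁ ↘ Spec (CommRingCat.of k)) (n + 1)).le
  have key := numerics n (fun s q => hd k (A s) q) (fun s q => hd k (A' s) q)
    (fun q => hodge_zero b x rfl hx n hb (hA' 0) (hA 0) q)
    (fun s hs => hodge_succ b x rfl hx n hb s hs (hA' (s + 1)) (hA (s + 1)))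
    (fun s q hs hq => S11317.result k (n + 1) N X ι hι' s q hs hq (A s) _ (hA s) (hA (n + 1 - s)))
    (fun s q hs hq => S11317.result k (n + 1) N' X₁ ι' hι1' s q hs hq (A' s) _ (hA' s) (hA' (n + 1 - s)))
    (fun s q hq => hd_of_van (Fga.EulerLEAdd.subsingleton_HH X (n + 1) hdim (A s) q hq))
    (fun s q hq => hd_of_van (Fga.EulerLEAdd.subsingleton_HH X₁ (n + 1) hdim' (A' s) q hq))
    (fun s q hs => hd_of_van (van_zeroMod (Krr.H495.Rank.isZero_of_rank_zero (by
      simpa [Nat.choose_eq_zero_of_lt hs] using Krr.H495.Rank.rank_extPow hΩr (hA s))) q))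
    (fun s q hs => hd_of_van (van_zeroMod (Krr.H495.Rank.isZero_of_rank_zero (by
      simpa [Nat.choose_eq_zero_of_lt hs] using Krr.H495.Rank.rank_extPow hΩr' (hA' s))) q))
    p q
  have e1 : hd k E' q = hd k (A' p) q := hd_c (c_extPow_unique rfl hE' (hA' p)) q
  have e2 : hd k E q = hd k (A p) q := hd_c (c_extPow_unique rfl hE (hA p)) q
  change hd k E' q = hd k E q + _
  rw [e1, e2]
  exact key

end Groth.Agent.HodgeNum.K108.PtHodge
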