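import Groth.Prelude.Def_ExtPow2
import Groth.Agent.Sga67.ExtSheaf
import Mathlib.AlgebraicGeometry.Morphisms.ClosedImmersion

/-!
# Exterior powers and direct images along closed immersions

`isExtPow_push`: for a closed immersion `e : E ⟶ X` and `p ≥ 1`, if `L` is a `p`-th exterior power of `F` then `e_* L`
is a `p`-th exterior power of `e_* F`.
-/

set_option autoImplicit false
universe u

open CategoryTheory CategoryTheory.Limits AlgebraicGeometry Opposite TopologicalSpace

namespace K108.PushExt

section Alg

open Function

theorem update_comp {ι : Type*} [DecidableEq ι] {X Y : Type*} (j : X → Y) (v : ι → X) (i : ι) (x : X) :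
    (fun k => j (update v i x k)) = update (fun k => j (v k)) i (j x) := by
  funext k
  by_cases hk : k = i
  · subst hk; simp
  · simp [hk]

theorem exists_equiv {A B : Type*} [CommRing A] [CommRing B] (f : A →+* B) (hf : Surjective f) {M M' : Type*}
    [AddCommGroup M] [Module A M] [AddCommGroup M'] [Module B M'] (j : M ≃+ M')
    (h : ∀ (a : A) (m : M), j (a • m) = f a • j m) (n : ℕ) : ∃ e : (⋀[A]^(n + 1) M) ≃+ (⋀[B]^(n + 1) M'),
    (∀ (a : A) x, e (a • x) = f a • e x) ∧
      ∀ v, e (exteriorPower.ιMulti A (n + 1) v) = exteriorPower.ιMulti B (n + 1) (fun i => j (v i)) := by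
  have hj : ∀ (a : A) (m : M'), j.symm (f a • m) = a • j.symm m := fun a m => by
    apply j.injective
    rw [j.apply_symm_apply, h, j.apply_symm_apply]
  have hker : ∀ (a : A) (_ : f a = 0) (x : ⋀[A]^(n + 1) M), a • x = 0 := by
    intro a ha x
    have hx : x ∈ Submodule.span A (Set.range (exteriorPower.ιMulti A (n + 1) (M := M))) := by
      rw [exteriorPower.ιMulti_span]; trivial
    induction hx using Submodule.span_induction with
    | mem x hx =>
      obtain ⟨v, rfl⟩ := hx
      have h1 : a • exteriorPower.ιMulti A (n + 1) v = exteriorPower.ιMulti A (n + 1) (update v 0 (a • v 0)) := by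
        rw [(exteriorPower.ιMulti A (n + 1)).map_update_smul, update_eq_self]
      rw [h1]
      refine (exteriorPower.ιMulti A (n + 1)).map_coord_zero 0 ?_
      rw [update_self]
      apply j.injective
      rw [h, ha, zero_smul, map_zero]
    | zero => rw [smul_zero]
    | add x y _ _ hx hy => rw [smul_add, hx, hy, add_zero]
    | smul b x _ hx => rw [smul_comm, hx, smul_zero]
  -- `A`-module structure on the target
  letI mA : Module A (⋀[B]^(n + 1) M') := Module.compHom _ f
  have hA : ∀ (a : A) (x : ⋀[B]^(n + 1) M'), a • x = f a • x := fun _ _ => rfl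
  let α : M [⋀^Fin (n + 1)]→ₗ[A] (⋀[B]^(n + 1) M') :=
    { toFun := fun v => exteriorPower.ιMulti B (n + 1) (fun i => j (v i))
      map_update_add' := fun v i x y => by
        rw [update_comp, update_comp, update_comp, map_add]
        exact (exteriorPower.ιMulti B (n + 1)).map_update_add _ i _ _
      map_update_smul' := fun v i c x => by
        rw [update_comp, update_comp, h, hA]
        exact (exteriorPower.ιMulti B (n + 1)).map_update_smul _ i (f c) _
      map_eq_zero_of_eq' := fun v i k hij hne =>
        (exteriorPower.ιMulti B (n + 1)).map_eq_zero_of_eq _ (congrArg j hij) hne }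
  let F := exteriorPower.alternatingMapLinearEquiv α
  have hF : ∀ v, F (exteriorPower.ιMulti A (n + 1) v) = exteriorPower.ιMulti B (n + 1) (fun i => j (v i)) := fun v =>
    exteriorPower.alternatingMapLinearEquiv_apply_ιMulti α v
  -- `B`-module structure on the source
  have key : ∀ (a a' : A) (x : ⋀[A]^(n + 1) M), f a = f a' → a • x = a' • x := by
    intro a a' x e
    exact sub_eq_zero.mp ((sub_smul a a' x).symm.trans (hker (a - a') (by rw [map_sub, e, sub_self]) x))
  let σ := surjInv hf
  have hσ : ∀ b, f (σ b) = b := surjInv_eq hf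
  letI mB : Module B (⋀[A]^(n + 1) M) :=
    { smul := fun b x => σ b • x
      one_smul := fun x => by
        change σ 1 • x = x
        rw [key _ 1 x (by rw [hσ, map_one]), one_smul]
      mul_smul := fun b c x => by
        change σ (b * c) • x = σ b • σ c • x
        rw [← mul_smul]
        exact key _ _ x (by rw [map_mul, hσ, hσ, hσ])
      smul_zero := fun b => smul_zero (σ b)
      smul_add := fun b x y => smul_add (σ b) x y
      add_smul := fun b c x => by
        change σ (b + c) • x = σ b • x + σ c • x
        rw [← add_smul]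
        exact key _ _ x (by rw [map_add, hσ, hσ, hσ])
      zero_smul := fun x => by
        change σ 0 • x = 0
        rw [key _ 0 x (by rw [hσ, map_zero]), zero_smul] }
  have hB : ∀ (b : B) (x : ⋀[A]^(n + 1) M), b • x = σ b • x := fun _ _ => rfl
  let β : M' [⋀^Fin (n + 1)]→ₗ[B] (⋀[A]^(n + 1) M) :=
    { toFun := fun v => exteriorPower.ιMulti A (n + 1) (fun i => j.symm (v i))
      map_update_add' := fun v i x y => by
        rw [update_comp, update_comp, update_comp, map_add]
        exact (exteriorPower.ιMulti A (n + 1)).map_update_add _ i _ _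
      map_update_smul' := fun v i c x => by
        have h1 : j.symm (c • x) = σ c • j.symm x := by rw [← hj, hσ]
        rw [update_comp, update_comp, h1, hB]
        exact (exteriorPower.ιMulti A (n + 1)).map_update_smul _ i (σ c) _
      map_eq_zero_of_eq' := fun v i k hij hne =>
        (exteriorPower.ιMulti A (n + 1)).map_eq_zero_of_eq _ (congrArg j.symm hij) hne }
  let H := exteriorPower.alternatingMapLinearEquiv β
  have hH : ∀ v, H (exteriorPower.ιMulti B (n + 1) v) = exteriorPower.ιMulti A (n + 1) (fun i => j.symm (v i)) :=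
    fun v => exteriorPower.alternatingMapLinearEquiv_apply_ιMulti β v
  have h1 : ∀ x, H (F x) = x := by
    intro x
    have hx : x ∈ Submodule.span A (Set.range (exteriorPower.ιMulti A (n + 1) (M := M))) := by
      rw [exteriorPower.ιMulti_span]; trivial
    induction hx using Submodule.span_induction with
    | mem x hx =>
      obtain ⟨v, rfl⟩ := hx
      rw [hF, hH]
      simp only [AddEquiv.symm_apply_apply]
    | zero => rw [map_zero, map_zero]
    | add x y _ _ hx hy => rw [map_add, map_add, hx, hy]
    | smul a x _ hx =>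
      rw [map_smul, hA, map_smul, hx, hB]
      exact key _ _ x (hσ _)
  have h2 : ∀ x, F (H x) = x := by
    intro x
    have hx : x ∈ Submodule.span B (Set.range (exteriorPower.ιMulti B (n + 1) (M := M'))) := by
      rw [exteriorPower.ιMulti_span]; trivial
    induction hx using Submodule.span_induction with
    | mem x hx =>
      obtain ⟨v, rfl⟩ := hx
      rw [hH, hF]
      simp only [AddEquiv.apply_symm_apply]
    | zero => rw [map_zero, map_zero]
    | add x y _ _ hx hy => rw [map_add, map_add, hx, hy]
    | smul b x _ hx => rw [map_smul, hB, map_smul, hA, hσ, hx]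
  refine ⟨{ toFun := F, invFun := H, left_inv := h1, right_inv := h2, map_add' := fun x y => map_add F x y },
    fun a x => ?_, hF⟩
  exact (map_smul F a x).trans (hA _ _)

end Alg

section Sheaf

open Groth.Agent.Sga67.Sec Groth.Agent.Sga67.ExtSheaf

variable {E X : Scheme.{u}} (e : E ⟶ X) [IsClosedImmersion e]

/-- The preimage of an affine open. -/
def Q (U : X.affineOpens) : E.affineOpens := ⟨e ⁻¹ᵁ U.1, U.2.preimage e⟩

/-- The map on sections. -/
noncomputable def appQ (U : X.affineOpens) : Γ(X, U.1) →+* Γ(E, (Q e U).1) := (e.app U.1).hom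

/-- Sections of a direct image. -/
def secPush (F : E.Modules) (U : X.affineOpens) :
    Sec ((Scheme.Modules.pushforward e).obj F) U.1 ≃+ Sec F (Q e U).1 where
  toFun s := s
  invFun s := s
  left_inv _ := rfl
  right_inv _ := rfl
  map_add' _ _ := rfl

theorem secPush_smul (F : E.Modules) (U : X.affineOpens) (a : Γ(X, U.1))
    (s : Sec ((Scheme.Modules.pushforward e).obj F) U.1) :
    secPush e F U (a • s) = appQ e U a • secPush e F U s := rfl

theorem secPush_res (F : E.Modules) {U V : X.affineOpens} (h : V.1 ≤ U.1) (h' : (Q e V).1 ≤ (Q e U).1)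
    (s : Sec ((Scheme.Modules.pushforward e).obj F) U.1) :
    secPush e F V (res _ h s) = res F h' (secPush e F U s) := rfl

theorem exists_equiv_sec (F : E.Modules) (n : ℕ) (U : X.affineOpens) :
    ∃ ε : (⋀[Γ(X, U.1)]^(n + 1) (Sec ((Scheme.Modules.pushforward e).obj F) U.1)) ≃+
      (⋀[Γ(E, (Q e U).1)]^(n + 1) (Sec F (Q e U).1)),
      (∀ (a : Γ(X, U.1)) x, ε (a • x) = appQ e U a • ε x) ∧
      ∀ v : Fin (n + 1) → Sec ((Scheme.Modules.pushforward e).obj F) U.1,
        ε (exteriorPower.ιMulti Γ(X, U.1) (n + 1) v) =
          exteriorPower.ιMulti Γ(E, (Q e U).1) (n + 1) (fun i => secPush e F U (v i)) :=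
  exists_equiv (appQ e U) (e.app_surjective U.1 U.2) (secPush e F U) (secPush_smul e F U) n

/-- Direct images of exterior powers of positive degree. -/
theorem isExtPow_push {n : ℕ} {F L : E.Modules} (hL : ExtPow.IsExtPow (n + 1) F L) :
    ExtPow.IsExtPow (n + 1) ((Scheme.Modules.pushforward e).obj F) ((Scheme.Modules.pushforward e).obj L) := by
  obtain ⟨φ, hφ⟩ := exists_phi hL
  choose ε hε hε' using exists_equiv_sec e F n
  let ψ : ∀ U : X.affineOpens, Sec ((Scheme.Modules.pushforward e).obj L) U.1 ≃+
      (⋀[Γ(X, U.1)]^(n + 1) (Sec ((Scheme.Modules.pushforward e).obj F) U.1)) := fun U =>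
    (secPush e L U).trans ((φ (Q e U)).toAddEquiv.trans (ε U).symm)
  have hψ : ∀ U s, ε U (ψ U s) = φ (Q e U) (secPush e L U s) := fun U s => (ε U).apply_symm_apply _
  refine ⟨fun U => (ψ U).toLinearEquiv fun a s => (ε U).injective ?_, fun U V h v => ?_⟩
  · have h1 : ε U (ψ U (a • s)) = appQ e U a • φ (Q e U) (secPush e L U s) := by
      rw [hψ, secPush_smul, map_smul]
    have h2 : ε U (a • ψ U s) = appQ e U a • φ (Q e U) (secPush e L U s) := by
      rw [hε, hψ]
    exact h1.trans h2.symm
  · have h1 : ∀ (U : X.affineOpens) (v : Fin (n + 1) → Sec ((Scheme.Modules.pushforward e).obj F) U.1),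
        secPush e L U ((ψ U).symm (exteriorPower.ιMulti Γ(X, U.1) (n + 1) v)) =
          (φ (Q e U)).symm (exteriorPower.ιMulti Γ(E, (Q e U).1) (n + 1) (fun i => secPush e F U (v i))) := by
      intro U v
      rw [← hε']
      apply (φ (Q e U)).injective
      rw [← hψ, AddEquiv.apply_symm_apply, LinearEquiv.apply_symm_apply]
    apply (secPush e L V).injective
    refine Eq.trans ?_ (h1 V _).symm
    refine (secPush_res e L h (fun x hx => h hx) _).trans ((congrArg (res L _) (h1 U v)).trans ?_)
    exact hφ (Q e U) (Q e V) (fun x hx => h hx) _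

end Sheaf

end K108.PushExt
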